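import Mathlib

/-!
Comparisons of geometric sums.
-/

set_option autoImplicit false

namespace CfsgLib.MaxOrder

open Finset

/-- `1 + q + ... + q ^ (d - 1)`. -/
def geo (q d : ℕ) : ℕ := ∑ i ∈ range d, q ^ i

theorem geo_succ (q d : ℕ) : geo q (d + 1) = geo q d + q ^ d := sum_range_succ _ _

theorem sub_one_mul_geo (q d : ℕ) (hq : 1 ≤ q) : (q - 1) * geo q d = q ^ d - 1 := by
  induction d with
  | zero => simp [geo]
  | succ d ih =>
    rw [geo_succ, mul_add, ih, Nat.sub_mul, one_mul, ← pow_succ']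
    have h1 : 1 ≤ q ^ d := Nat.one_le_pow _ _ hq
    have h2 : q ^ d ≤ q ^ (d + 1) := Nat.pow_le_pow_right hq (Nat.le_succ d)
    omega

theorem le_geo {q d : ℕ} (hq : 2 ≤ q) {r : ℕ} (h : (q - 1) * r ≤ q ^ d - 1) : r ≤ geo q d := by
  rw [← sub_one_mul_geo q d (by omega)] at h
  exact Nat.le_of_mul_le_mul_left h (by omega)

theorem mul_le_two_pow {m : ℕ} (hm : 1 ≤ m) : m ≤ 2 ^ (m - 1) := by
  obtain ⟨k, rfl⟩ : ∃ k, m = k + 1 := ⟨m - 1, by omega⟩
  exact Nat.lt_two_pow_self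

theorem two_mul_le_pow {m : ℕ} (hm : 1 ≤ m) : 2 * m ≤ 2 ^ (3 * (m - 1)) + 1 := by
  obtain ⟨k, rfl⟩ : ∃ k, m = k + 1 := ⟨m - 1, by omega⟩
  rw [Nat.add_sub_cancel]
  induction k with
  | zero => simp
  | succ k ih =>
    have h := ih (by omega)
    rw [show 3 * (k + 1) = 3 * k + 3 by ring, pow_add]
    have : 1 ≤ 2 ^ (3 * k) := Nat.one_le_two_pow
    omega

theorem semi_sum {q m d : ℕ} (hq : 2 ≤ q) (hm : 1 ≤ m) (hd : 2 ≤ d) (hx : ¬ (d = 2 ∧ q = 2 ∧ m = 2)) :
    m * geo q d ≤ geo (q ^ m) d := by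
  have step : ∀ i, 2 ≤ i → m * q ^ i ≤ (q ^ m) ^ i := by
    intro i hi
    rw [← pow_mul]
    calc m * q ^ i ≤ 2 ^ (m - 1) * q ^ i := Nat.mul_le_mul_right _ (mul_le_two_pow hm)
      _ ≤ q ^ (m - 1) * q ^ i := Nat.mul_le_mul_right _ (Nat.pow_le_pow_left hq _)
      _ = q ^ (m - 1 + i) := (pow_add _ _ _).symm
      _ ≤ q ^ (m * i) := Nat.pow_le_pow_right (by omega) (by
        obtain ⟨k, rfl⟩ : ∃ k, m = k + 1 := ⟨m - 1, by omega⟩
        rw [Nat.add_sub_cancel, Nat.succ_mul]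
        nlinarith)
  have base2 : m ≠ 2 ∨ q ≠ 2 → m * geo q 2 ≤ geo (q ^ m) 2 := by
    intro h
    simp only [geo, sum_range_succ, sum_range_zero, pow_zero, pow_one, zero_add]
    match m, hm with
    | 1, _ => simp
    | 2, _ =>
      have : 3 ≤ q := by omega
      nlinarith
    | k + 3, _ =>
      clear h hx step
      have hq4 : 4 * q ≤ q ^ 3 := by
        rw [pow_succ]
        exact Nat.mul_le_mul_right _ (by nlinarith)
      induction k with
      | zero => norm_num; omega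
      | succ k ih =>
        have h1 := ih (by omega)
        have h3 : q ^ 3 ≤ q ^ (k + 3) := Nat.pow_le_pow_right (by omega) (by omega)
        have h4 : 2 * q ^ (k + 3) ≤ q ^ (k + 3) * q := by rw [mul_comm 2]; exact Nat.mul_le_mul_left _ hq
        rw [show k + 1 + 3 = (k + 3) + 1 from rfl, pow_succ, Nat.succ_mul]
        omega
  induction d, hd using Nat.le_induction with
  | base => exact base2 (by omega)
  | succ d hd ih =>
    rcases Classical.em (d = 2 ∧ q = 2 ∧ m = 2) with ⟨rfl, rfl, rfl⟩ | h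
    · decide
    · rw [geo_succ, geo_succ, mul_add]
      exact Nat.add_le_add (ih h) (step d hd)

theorem graph_sum {q m d : ℕ} (hq : 2 ≤ q) (hm : 2 ≤ m) (hd : 3 ≤ d) (hx : m = 2 → 4 ≤ q) :
    2 * m * geo q d ≤ geo (q ^ m) d := by
  have step : ∀ i, 2 ≤ i → 2 * m * q ^ i ≤ (q ^ m) ^ i := by
    intro i hi
    rw [← pow_mul]
    have h1 : 2 * m ≤ 2 ^ (2 * (m - 1)) := by
      obtain ⟨k, rfl⟩ : ∃ k, m = k + 2 := ⟨m - 2, by omega⟩
      clear hx hm
      induction k with
      | zero => simp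
      | succ k ih =>
        rw [show 2 * (k + 1 + 2 - 1) = 2 * (k + 2 - 1) + 2 by omega, pow_add]
        omega
    calc 2 * m * q ^ i ≤ q ^ (2 * (m - 1)) * q ^ i :=
          Nat.mul_le_mul_right _ (h1.trans (Nat.pow_le_pow_left hq _))
      _ = q ^ (2 * (m - 1) + i) := (pow_add _ _ _).symm
      _ ≤ q ^ (m * i) := Nat.pow_le_pow_right (by omega) (by
        obtain ⟨k, rfl⟩ : ∃ k, m = k + 1 := ⟨m - 1, by omega⟩
        rw [Nat.add_sub_cancel, Nat.succ_mul]
        nlinarith)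
  induction d, hd using Nat.le_induction with
  | base =>
    simp only [geo, sum_range_succ, sum_range_zero, pow_zero, pow_one, zero_add]
    rcases Nat.eq_or_lt_of_le hm with h | h
    · subst h
      have : 4 ≤ q := hx rfl
      nlinarith [Nat.mul_le_mul (Nat.mul_le_mul this this) (le_refl (q * q))]
    · obtain ⟨k, rfl⟩ : ∃ k, m = k + 3 := ⟨m - 3, by omega⟩
      have h2 : 2 * (k + 3) * 2 ≤ 2 ^ (2 * (k + 3) - 2) := by
        clear hm h hx step
        induction k with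
        | zero => simp
        | succ k ih =>
          rw [show 2 * (k + 1 + 3) - 2 = (2 * (k + 3) - 2) + 2 by omega, pow_add]
          omega
      have h3 : 1 + q + q ^ 2 ≤ 2 * q ^ 2 := by nlinarith
      calc 2 * (k + 3) * (1 + q + q ^ 2) ≤ 2 * (k + 3) * (2 * q ^ 2) := Nat.mul_le_mul_left _ h3
        _ = 2 * (k + 3) * 2 * q ^ 2 := by ring
        _ ≤ q ^ (2 * (k + 3) - 2) * q ^ 2 :=
          Nat.mul_le_mul_right _ (h2.trans (Nat.pow_le_pow_left hq _))
        _ = (q ^ (k + 3)) ^ 2 := by rw [← pow_add, ← pow_mul]; congr 1; omega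
        _ ≤ _ := Nat.le_add_left _ _
  | succ d hd ih =>
    rw [geo_succ, geo_succ, mul_add]
    exact Nat.add_le_add ih (step d (by omega))

theorem bernoulli (a : ℕ) : 2 * a ^ a ≤ (a + 1) ^ a + if a = 0 then 1 else 0 := by
  rcases Nat.eq_zero_or_pos a with rfl | ha
  · simp
  have h : ∀ k, a ^ k * (a + k) ≤ (a + 1) ^ k * a := by
    intro k
    induction k with
    | zero => simp
    | succ k ih =>
      rw [pow_succ, pow_succ]
      have h1 := Nat.mul_le_mul_right (a + 1) ih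
      nlinarith [Nat.zero_le (a ^ k * k)]
  have := h a
  rw [if_neg (by omega), add_zero]
  exact Nat.le_of_mul_le_mul_right (c := a) (by nlinarith) ha

end CfsgLib.MaxOrder
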