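import Mathlib

/-!
Bounds on orders modulo scalars inside a cyclic algebra.
-/

set_option autoImplicit false
set_option linter.unusedSectionVars false

open Polynomial

namespace CfsgLib.MaxOrder

variable {K : Type*} [Field K] [Finite K] {A : Type*} [Ring A] [Algebra K A] [Nontrivial A]

/-- The first `r` powers of `N` are distinct modulo scalars. -/
def NoSc (K : Type*) [Field K] {A : Type*} [Ring A] [Algebra K A] (N : A) (r : ℕ) : Prop :=
  ∀ i, 0 < i → i < r → ∀ c : K, N ^ i ≠ algebraMap K A c

theorem exists_coeffs {N : A} {P : K[X]} (hP : P.Monic) (h0 : aeval N P = 0) (Q : K[X]) :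
    ∃ v : Fin P.natDegree → K, aeval N Q = ∑ i, v i • N ^ (i : ℕ) := by
  rcases Nat.eq_zero_or_pos P.natDegree with hd | hd
  · rw [hP.natDegree_eq_zero.mp hd, map_one] at h0
    exact absurd h0 one_ne_zero
  refine ⟨fun i => (Q %ₘ P).coeff i, ?_⟩
  rw [← modByMonic_eq_sub_mul_div Q P |> fun e => show aeval N (Q %ₘ P) = aeval N Q by
      rw [e, map_sub, map_mul, h0, zero_mul, sub_zero],
    aeval_eq_sum_range' (n := P.natDegree) (natDegree_modByMonic_lt Q hP (by intro e; rw [e] at hd; simp at hd)) N,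
    Finset.sum_range]

theorem eq_of_pow_eq {N : Aˣ} {r : ℕ} (hr : NoSc K (N : A) r) {c c' : Kˣ} {i i' : Fin r}
    (h : algebraMap K A c * (N : A) ^ (i : ℕ) = algebraMap K A c' * (N : A) ^ (i' : ℕ)) : c = c' ∧ i = i' := by
  classical
  wlog hle : (i : ℕ) ≤ i' generalizing c c' i i'
  · exact (this h.symm (Nat.le_of_not_le hle)).imp Eq.symm Eq.symm
  obtain ⟨l, hl⟩ := Nat.exists_eq_add_of_le hle
  rw [hl, Algebra.commutes (c' : K), add_comm (i : ℕ) l, pow_add, ← Algebra.commutes (c' : K), ← mul_assoc] at h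
  rw [← Units.val_pow_eq_pow_val N (i : ℕ)] at h
  have h1 := Units.mul_left_inj (N ^ (i : ℕ)) |>.mp h
  rcases Nat.eq_zero_or_pos l with rfl | hl0
  · refine ⟨Units.ext ((algebraMap K A).injective ?_), Fin.ext (by omega)⟩
    rwa [pow_zero, mul_one] at h1
  · exfalso
    refine hr l hl0 (by omega) ((c' : K)⁻¹ * c) ?_
    rw [map_mul, h1, ← mul_assoc, ← map_mul, inv_mul_cancel₀ c'.ne_zero, map_one, one_mul]

/-- Basic bound. -/
theorem ord_bound (N : Aˣ) {P : K[X]} (hP : P.Monic) (h0 : aeval (N : A) P = 0) {r : ℕ}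
    (hr : NoSc K (N : A) r) : (Nat.card K - 1) * r ≤ Nat.card K ^ P.natDegree - 1 := by
  classical
  cases nonempty_fintype K
  choose v hv using fun x : Kˣ × Fin r => exists_coeffs hP h0 (C (x.1 : K) * X ^ (x.2 : ℕ))
  have hev : ∀ x : Kˣ × Fin r,
      aeval (N : A) (C (x.1 : K) * X ^ (x.2 : ℕ)) = algebraMap K A x.1 * (N : A) ^ (x.2 : ℕ) := fun x => by
    rw [map_mul, aeval_C, map_pow, aeval_X]
  have hne : ∀ x, v x ≠ 0 := fun x e => by
    have h := (hev x).symm.trans (hv x)
    simp only [e, Pi.zero_apply, zero_smul, Finset.sum_const_zero] at h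
    exact ((IsUnit.map (algebraMap K A) x.1.isUnit).mul (N.isUnit.pow _)).ne_zero h
  have hinj : Function.Injective v := fun x y e => by
    have h := (hev x).symm.trans ((hv x).trans (e ▸ (hv y).symm.trans (hev y)))
    exact Prod.ext (eq_of_pow_eq hr h).1 (eq_of_pow_eq hr h).2
  have := Finset.card_le_card (s := Finset.univ.image v) (t := Finset.univ.erase 0) (fun w hw => by
    obtain ⟨x, -, rfl⟩ := Finset.mem_image.mp hw
    exact Finset.mem_erase.mpr ⟨hne x, Finset.mem_univ _⟩)
  rw [Finset.card_image_of_injective _ hinj, Finset.card_erase_of_mem (Finset.mem_univ _), Finset.card_univ,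
    Finset.card_univ, Fintype.card_prod, Fintype.card_units, Fintype.card_fin, Fintype.card_fun, Fintype.card_fin,
    ← Nat.card_eq_fintype_card (α := K)] at this
  exact this

/-- A unit outside the powers of `N` halves the bound. -/
theorem ord_bound_two (N : Aˣ) {P : K[X]} (hP : P.Monic) (h0 : aeval (N : A) P = 0) {r : ℕ}
    (hr : NoSc K (N : A) r) (Q : K[X]) (hQ : IsUnit (aeval (N : A) Q))
    (hout : ∀ (i l : ℕ) (c : K), aeval (N : A) Q * (N : A) ^ i ≠ algebraMap K A c * (N : A) ^ l) :
    2 * ((Nat.card K - 1) * r) ≤ Nat.card K ^ P.natDegree - 1 := by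
  classical
  cases nonempty_fintype K
  let R : Bool → K[X] := fun b => if b then Q else 1
  have hR : ∀ b, IsUnit (aeval (N : A) (R b)) := fun b => by
    cases b <;> simp [R, hQ]
  choose v hv using fun x : Bool × Kˣ × Fin r => exists_coeffs hP h0 (R x.1 * (C (x.2.1 : K) * X ^ (x.2.2 : ℕ)))
  have hev : ∀ x : Bool × Kˣ × Fin r, aeval (N : A) (R x.1 * (C (x.2.1 : K) * X ^ (x.2.2 : ℕ))) =
      aeval (N : A) (R x.1) * (algebraMap K A x.2.1 * (N : A) ^ (x.2.2 : ℕ)) := fun x => by
    rw [map_mul, map_mul, aeval_C, map_pow, aeval_X]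
  have hne : ∀ x, v x ≠ 0 := fun x e => by
    have h := (hev x).symm.trans (hv x)
    simp only [e, Pi.zero_apply, zero_smul, Finset.sum_const_zero] at h
    exact ((hR x.1).mul ((IsUnit.map (algebraMap K A) x.2.1.isUnit).mul (N.isUnit.pow _))).ne_zero h
  have hmix : ∀ (c c' : Kˣ) (i l : ℕ), aeval (N : A) Q * (algebraMap K A c * (N : A) ^ i) ≠
      1 * (algebraMap K A c' * (N : A) ^ l) := by
    intro c c' i l h
    refine hout i l ((c : K)⁻¹ * c') ?_
    rw [one_mul, ← mul_assoc, ← Algebra.commutes (c : K), mul_assoc] at h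
    rw [map_mul, mul_assoc, ← h, ← mul_assoc, ← map_mul, inv_mul_cancel₀ c.ne_zero, map_one, one_mul]
  have hinj : Function.Injective v := by
    rintro ⟨b, c, i⟩ ⟨b', c', i'⟩ e
    have h := (hev _).symm.trans ((hv _).trans (e ▸ (hv _).symm.trans (hev ⟨b', c', i'⟩)))
    have hb : b = b' := by
      cases b <;> cases b'
      · rfl
      · exact absurd (by simpa [R] using h.symm) (hmix c' c i' i)
      · exact absurd (by simpa [R] using h) (hmix c c' i i')
      · rfl
    subst hb
    obtain ⟨rfl, rfl⟩ := eq_of_pow_eq hr ((hR b).mul_left_cancel h)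
    rfl
  have := Finset.card_le_card (s := Finset.univ.image v) (t := Finset.univ.erase 0) (fun w hw => by
    obtain ⟨x, -, rfl⟩ := Finset.mem_image.mp hw
    exact Finset.mem_erase.mpr ⟨hne x, Finset.mem_univ _⟩)
  rw [Finset.card_image_of_injective _ hinj, Finset.card_erase_of_mem (Finset.mem_univ _), Finset.card_univ,
    Finset.card_univ, Fintype.card_prod, Fintype.card_prod, Fintype.card_bool, Fintype.card_units, Fintype.card_fin,
    Fintype.card_fun, Fintype.card_fin, ← Nat.card_eq_fintype_card (α := K)] at this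
  exact this

omit [Finite K] in
theorem not_isRoot_of_isUnit {N : A} {P : K[X]} (h0 : aeval N P = 0)
    (hmin : ∀ P' : K[X], P' ≠ 0 → P'.natDegree < P.natDegree → aeval N P' ≠ 0) {lam : K} (hP : P ≠ 0)
    (hlam : P.IsRoot lam) {Q : K[X]} (hQ : IsUnit (aeval N Q)) : ¬ Q.IsRoot lam := by
  intro hQl
  obtain ⟨P₁, hP₁⟩ := dvd_iff_isRoot.mpr hlam
  obtain ⟨Q₁, hQ₁⟩ := dvd_iff_isRoot.mpr hQl
  have hne : P₁ ≠ 0 := fun e => hP (by rw [hP₁, e, mul_zero])
  have hlt : P₁.natDegree < P.natDegree := by
    rw [hP₁, natDegree_mul (X_sub_C_ne_zero lam) hne, natDegree_X_sub_C]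
    omega
  refine hmin P₁ hne hlt (hQ.mul_left_cancel ?_)
  rw [mul_zero, ← map_mul, hQ₁, mul_right_comm, ← hP₁, map_mul, h0, zero_mul]

/-- When every nonzero scalar is a root, units avoid the evaluation hyperplanes. -/
theorem ord_bound_roots (N : Aˣ) {P : K[X]} (hP : P.Monic) (h0 : aeval (N : A) P = 0)
    (hmin : ∀ P' : K[X], P' ≠ 0 → P'.natDegree < P.natDegree → aeval (N : A) P' ≠ 0)
    (hroots : ∀ t : Kˣ, P.IsRoot (t : K)) {r : ℕ} (hr : NoSc K (N : A) r) :
    Nat.card K - 1 ≤ P.natDegree ∧
      (Nat.card K - 1) * r ≤ (Nat.card K - 1) ^ (Nat.card K - 1) * Nat.card K ^ (P.natDegree - (Nat.card K - 1)) := by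
  classical
  cases nonempty_fintype K
  set k := P.natDegree
  have hk : Nat.card K - 1 ≤ k := by
    have h := Finset.card_le_card (s := (Finset.univ.image fun t : Kˣ => (t : K))) (t := P.roots.toFinset)
      (fun x hx => by
        obtain ⟨t, -, rfl⟩ := Finset.mem_image.mp hx
        rw [Multiset.mem_toFinset, mem_roots hP.ne_zero]
        exact hroots t)
    rw [Finset.card_image_of_injective _ Units.val_injective, Finset.card_univ, Fintype.card_units,
      ← Nat.card_eq_fintype_card] at h
    exact h.trans ((Multiset.toFinset_card_le _).trans (card_roots' _))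
  refine ⟨hk, ?_⟩
  let ev : (Fin k → K) →+ (Kˣ → K) :=
    { toFun := fun v t => ∑ i, v i * (t : K) ^ (i : ℕ)
      map_zero' := by funext t; simp
      map_add' := fun v w => by funext t; simp [add_mul, Finset.sum_add_distrib] }
  have hsurj : Function.Surjective ev := by
    intro w
    set p := Lagrange.interpolate (Finset.univ : Finset Kˣ) (fun t => (t : K)) w
    have hdeg := Lagrange.degree_interpolate_lt (s := (Finset.univ : Finset Kˣ)) (v := fun t : Kˣ => (t : K)) w
      (Units.val_injective.injOn)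
    refine ⟨fun i => p.coeff i, funext fun t => ?_⟩
    show ∑ i : Fin k, p.coeff i * (t : K) ^ (i : ℕ) = w t
    rw [← Lagrange.eval_interpolate_at_node w (Units.val_injective.injOn) (Finset.mem_univ t)]
    rcases eq_or_ne p 0 with hp | hp
    · rw [show (Lagrange.interpolate (Finset.univ : Finset Kˣ) (fun t => (t : K))) w = 0 from hp, hp]
      simp
    rw [eval_eq_sum_range' (n := k) ?_, Finset.sum_range]
    rw [natDegree_lt_iff_degree_lt hp]
    refine hdeg.trans_le ?_
    rw [Finset.card_univ, Fintype.card_units, ← Nat.card_eq_fintype_card]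
    exact_mod_cast hk
  let S : Finset (Fin k → K) := Finset.univ.filter fun v => ∀ t, ev v t ≠ 0
  have hfib : ∀ w, (Finset.univ.filter fun v => ev v = w).card = (Finset.univ.filter fun v => ev v = 0).card := by
    intro w
    obtain ⟨v₀, rfl⟩ := hsurj w
    refine Finset.card_bij' (fun v _ => v - v₀) (fun v _ => v + v₀) ?_ ?_ ?_ ?_ <;> intro v hv <;>
      simp at hv ⊢ <;> simp [hv]
  have htot : (Finset.univ.filter fun v => ev v = 0).card * Nat.card K ^ (Nat.card K - 1) = Nat.card K ^ k := by
    have h := Finset.card_eq_sum_card_fiberwise (f := ev) (s := (Finset.univ : Finset (Fin k → K)))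
      (t := (Finset.univ : Finset (Kˣ → K))) (fun _ _ => Finset.mem_univ _)
    simp only [hfib, Finset.sum_const, smul_eq_mul, Finset.card_univ, Fintype.card_fun, Fintype.card_fin,
      Fintype.card_units, ← Nat.card_eq_fintype_card (α := K)] at h
    rw [h, mul_comm]
  have hker : (Finset.univ.filter fun v => ev v = 0).card = Nat.card K ^ (k - (Nat.card K - 1)) := by
    have hq : 0 < Nat.card K ^ (Nat.card K - 1) := pow_pos Nat.card_pos _
    refine Nat.eq_of_mul_eq_mul_right hq ?_
    rw [htot, ← pow_add, Nat.sub_add_cancel hk]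
  have hS : S.card = (Nat.card K - 1) ^ (Nat.card K - 1) * Nat.card K ^ (k - (Nat.card K - 1)) := by
    have h := Finset.card_eq_sum_card_fiberwise (f := ev) (s := S)
      (t := Fintype.piFinset fun _ : Kˣ => (Finset.univ.erase (0 : K)))
      (fun v hv => Fintype.mem_piFinset.mpr fun t => Finset.mem_erase.mpr
        ⟨(Finset.mem_filter.mp hv).2 t, Finset.mem_univ _⟩)
    rw [h, Finset.sum_congr rfl (g := fun _ => Nat.card K ^ (k - (Nat.card K - 1))) ?_, Finset.sum_const, smul_eq_mul,
      Fintype.card_piFinset, Finset.prod_const, Finset.card_erase_of_mem (Finset.mem_univ _), Finset.card_univ,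
      Finset.card_univ, Fintype.card_units, ← Nat.card_eq_fintype_card]
    intro w hw
    rw [← hker, ← hfib w]
    congr 1
    ext v
    simp only [S, Finset.mem_filter, Finset.mem_univ, true_and, and_iff_right_iff_imp]
    exact fun e t => by rw [e]; exact (Finset.mem_erase.mp (Fintype.mem_piFinset.mp hw t)).1
  choose v hv using fun x : Kˣ × Fin r => exists_coeffs hP h0 (C (x.1 : K) * X ^ (x.2 : ℕ))
  have hev : ∀ x : Kˣ × Fin r,
      aeval (N : A) (C (x.1 : K) * X ^ (x.2 : ℕ)) = algebraMap K A x.1 * (N : A) ^ (x.2 : ℕ) := fun x => by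
    rw [map_mul, aeval_C, map_pow, aeval_X]
  have hinj : Function.Injective v := fun x y e => by
    have h := (hev x).symm.trans ((hv x).trans (e ▸ (hv y).symm.trans (hev y)))
    exact Prod.ext (eq_of_pow_eq hr h).1 (eq_of_pow_eq hr h).2
  have hmem : ∀ x, v x ∈ S := by
    intro x
    refine Finset.mem_filter.mpr ⟨Finset.mem_univ _, fun t ht => ?_⟩
    refine not_isRoot_of_isUnit h0 hmin hP.ne_zero (hroots t) (Q := ∑ i : Fin k, C (v x i) * X ^ (i : ℕ)) ?_ ?_
    · rw [map_sum]
      simp only [map_mul, aeval_C, map_pow, aeval_X, ← Algebra.smul_def]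
      rw [← hv x, hev x]
      exact (IsUnit.map (algebraMap K A) x.1.isUnit).mul (N.isUnit.pow _)
    · rw [IsRoot.def, eval_finset_sum]
      simp only [eval_mul, eval_C, eval_pow, eval_X]
      exact ht
  have := Finset.card_le_card (s := Finset.univ.image v) (t := S) (fun w hw => by
    obtain ⟨x, -, rfl⟩ := Finset.mem_image.mp hw
    exact hmem x)
  rw [Finset.card_image_of_injective _ hinj, hS, Finset.card_univ, Fintype.card_prod, Fintype.card_units,
    Fintype.card_fin, ← Nat.card_eq_fintype_card (α := K)] at this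
  exact this

end CfsgLib.MaxOrder
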