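import Cfsg.Agent.MaxOrder.Count
import Cfsg.Agent.MaxOrder.Arith
import Cfsg.Agent.AutPSL.Main
import Cfsg.Agent.AutPSL.Out
import Cfsg.Agent.AutPSL.ClassBasics
import Cfsg.Agent.AutPSL.GraphFieldClasses

/-!
The largest element order in the automorphism group of `PSL_d`.
-/

set_option autoImplicit false
set_option linter.unusedSectionVars false
set_option linter.style.haveILetI false

open Matrix Polynomial

namespace CfsgLib.MaxOrder

open CfsgLib.AutPSL

variable {F : Type*} [Field F] [Finite F] {d : ℕ}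

local notation "Mat" => Matrix (Fin d) (Fin d) F

theorem noSc_orderOf (K : Subfield F) (N : GL (Fin d) F) :
    NoSc K (N : Mat) (orderOf (semiAut N (RingEquiv.refl F))) := by
  intro i hi hlt c hc
  refine Nat.not_dvd_of_pos_of_lt hi hlt (orderOf_dvd_of_pow_eq_one ?_)
  have h : semiAut N (RingEquiv.refl F) ^ i = semiAut (N ^ i) (RingEquiv.refl F) := (map_pow (innDiagHom d F) N i).symm
  rw [h]
  refine semiAut_scalar (c := (c : F)) ?_
  rw [Units.val_pow_eq_pow_val, hc, Algebra.algebraMap_eq_smul_one]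
  rfl

theorem exists_fixed_poly (σ : RingAut F) (g N : GL (Fin d) F) (h : g * glMap σ N = N * g) :
    ∃ P : (fixField σ)[X], P.Monic ∧ P.natDegree = d ∧ aeval (N : Mat) P = 0 := by
  have hchar : (N : Mat).charpoly.map (σ : F →+* F) = (N : Mat).charpoly := by
    rw [← Matrix.charpoly_map]
    have e : g * glMap σ N * g⁻¹ = N := by rw [h, mul_inv_cancel_right]
    conv_rhs => rw [← e]
    rw [Units.val_mul, Units.val_mul, Matrix.coe_units_inv, Matrix.charpoly_units_conj]
    rfl
  have hlift : (N : Mat).charpoly ∈ Polynomial.lifts (fixField σ).subtype := by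
    rw [Polynomial.lifts_iff_coeff_lifts]
    intro i
    refine ⟨⟨(N : Mat).charpoly.coeff i, (mem_fixField σ).mpr ?_⟩, rfl⟩
    conv_rhs => rw [← hchar, Polynomial.coeff_map]
    rfl
  obtain ⟨P, hP, hdeg, hmon⟩ := Polynomial.lifts_and_degree_eq_and_monic hlift (Matrix.charpoly_monic _)
  refine ⟨P, hmon, ?_, ?_⟩
  · rw [← Polynomial.natDegree_map (fixField σ).subtype (p := P), hP, Matrix.charpoly_natDegree_eq_dim,
      Fintype.card_fin]
  · rw [← Polynomial.aeval_map_algebraMap (A := F) (N : Mat) P,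
      show algebraMap (fixField σ) F = (fixField σ).subtype from rfl, hP, Matrix.aeval_self_charpoly]

/-- Bound for semilinear maps. -/
theorem semi_le (hd : 2 ≤ d) (g : GL (Fin d) F) (σ : RingAut F) {m : ℕ} (hm : orderOf σ = m) (hm1 : 1 ≤ m) :
    orderOf (semiAut g σ) ≤ m * geo (Nat.card (fixField σ)) d := by
  have : Nontrivial Mat := by
    have : NeZero d := ⟨by omega⟩
    infer_instance
  set N := twistProd σ g m with hN
  have hσm : σ ^ m = 1 := hm ▸ pow_orderOf_eq_one σ
  have hcomm : g * glMap σ N = N * g := by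
    rw [hN, ← twistProd_succ, twistProd_add σ g m 1, twistProd_one, hσm, glMap_one_aut]
  obtain ⟨P, hP, hdeg, h0⟩ := exists_fixed_poly σ g N hcomm
  set r := orderOf (semiAut N (RingEquiv.refl F)) with hr
  have hb := ord_bound N hP h0 (noSc_orderOf _ N)
  rw [hdeg] at hb
  have hrle : r ≤ geo (Nat.card (fixField σ)) d := le_geo Finite.one_lt_card hb
  have hpow : semiAut g σ ^ (m * r) = 1 := by
    rw [pow_mul, semiAut_pow, hσm]
    exact pow_orderOf_eq_one _
  have hpos : 0 < r := (isOfFinOrder_of_finite (semiAut N (RingEquiv.refl F))).orderOf_pos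
  exact (Nat.le_of_dvd (Nat.mul_pos hm1 hpos) (orderOf_dvd_of_pow_eq_one hpow)).trans
    (Nat.mul_le_mul_left _ hrle)

theorem pow_mul_geo_le {q q₀ m : ℕ} (hq : q₀ ^ m = q) (hd : 2 ≤ d) (hq₀ : 2 ≤ q₀) (hm : 1 ≤ m)
    (hx : ¬ (d = 2 ∧ q = 4)) : m * geo q₀ d ≤ geo q d := by
  subst hq
  exact semi_sum hq₀ hm hd (by rintro ⟨rfl, rfl, rfl⟩; exact hx ⟨rfl, rfl⟩)

theorem le_two_pow_sub_two {e : ℕ} (he : 4 ≤ e) : e ≤ 2 ^ (e - 2) := by
  induction e, he using Nat.le_induction with
  | base => norm_num
  | succ e he ih =>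
    rw [show e + 1 - 2 = (e - 2) + 1 by omega, pow_succ]
    omega

theorem nilpotent_pow {M : Mat} (hM : IsNilpotent M) : M ^ d = 0 := by
  have h := Matrix.isNilpotent_charpoly_sub_pow_of_isNilpotent hM
  have h1 : M.charpoly = X ^ Fintype.card (Fin d) := sub_eq_zero.mp h.eq_zero
  have h2 := Matrix.aeval_self_charpoly M
  rwa [h1, map_pow, aeval_X, Fintype.card_fin] at h2

/-- The twisted adjoint. -/
def adj (g : GL (Fin d) F) (σ : RingAut F) (M : Mat) : Mat :=
  (g : Mat) * Mᵀ.map σ * ((g⁻¹ : GL (Fin d) F) : Mat)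

theorem adj_mul (g : GL (Fin d) F) (σ : RingAut F) (M M' : Mat) : adj g σ (M * M') = adj g σ M' * adj g σ M := by
  rw [adj, adj, adj, Matrix.transpose_mul, Matrix.map_mul]
  calc _ = (g : Mat) * M'ᵀ.map σ * (((g⁻¹ : GL (Fin d) F) : Mat) * (g : Mat)) * Mᵀ.map σ *
        ((g⁻¹ : GL (Fin d) F) : Mat) := by rw [g.inv_mul, mul_one]; simp only [mul_assoc]
    _ = _ := by simp only [mul_assoc]

theorem adj_one (g : GL (Fin d) F) (σ : RingAut F) : adj g σ 1 = 1 := by
  rw [adj, Matrix.transpose_one, Matrix.map_one σ (map_zero σ) (map_one σ), mul_one, g.mul_inv]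

theorem adj_add (g : GL (Fin d) F) (σ : RingAut F) (M M' : Mat) : adj g σ (M + M') = adj g σ M + adj g σ M' := by
  rw [adj, adj, adj, Matrix.transpose_add, Matrix.map_add _ (map_add σ), mul_add, add_mul]

theorem adj_smul (g : GL (Fin d) F) (σ : RingAut F) (c : F) (M : Mat) : adj g σ (c • M) = σ c • adj g σ M := by
  rw [adj, adj, Matrix.transpose_smul, show (c • Mᵀ).map σ = σ c • Mᵀ.map σ from by ext a b; simp,
    mul_smul_comm, smul_mul_assoc]

/-- Bound for the square of a graph automorphism over an involutive field automorphism. -/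
theorem graph_le (hd : 3 ≤ d) (h32 : ¬ (d = 3 ∧ Nat.card F = 2)) (g : GL (Fin d) F) {σ : RingAut F} (hσ : σ ^ 2 = 1) :
    (Nat.card F - 1) * (2 * orderOf (semiAut (g * starHom σ g) (RingEquiv.refl F))) ≤ Nat.card F ^ d - 1 := by
  classical
  cases nonempty_fintype F
  have : Nontrivial Mat := by
    have : NeZero d := ⟨by omega⟩
    infer_instance
  set h := g * starHom σ g with hh
  set r := orderOf (semiAut h (RingEquiv.refl F))
  set q := Nat.card F
  have hq : 2 ≤ q := Finite.one_lt_card
  have hr : NoSc F (h : Mat) r := by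
    intro i hi hlt c hc
    refine Nat.not_dvd_of_pos_of_lt hi hlt (orderOf_dvd_of_pow_eq_one ?_)
    have h' : semiAut h (RingEquiv.refl F) ^ i = semiAut (h ^ i) (RingEquiv.refl F) := (map_pow (innDiagHom d F) h i).symm
    rw [h']
    refine semiAut_scalar (c := c) ?_
    rw [Units.val_pow_eq_pow_val, hc, Algebra.algebraMap_eq_smul_one]
  have hinv : ∀ x : GL (Fin d) F, starHom σ (starHom σ x) = x := by
    intro x
    have e : σ * σ = (1 : RingAut F) := by rw [← pow_two]; exact hσ
    refine Units.ext (Matrix.ext fun a b => ?_)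
    show σ (σ ((x : Mat) a b)) = _
    exact RingEquiv.congr_fun e _
  have hadj : adj g σ (h : Mat) = ((h⁻¹ : GL (Fin d) F) : Mat) := by
    have e : g * starHom σ h * g⁻¹ = h := by
      rw [hh, map_mul, hinv, ← mul_assoc, mul_inv_cancel_right]
    have e' := congrArg (fun x : GL (Fin d) F => ((x⁻¹ : GL (Fin d) F) : Mat)) e
    simp only [_root_.mul_inv_rev, inv_inv, ← mul_assoc, Units.val_mul] at e'
    exact e'
  have hadjpow : ∀ i, adj g σ ((h : Mat) ^ i) = ((h⁻¹ : GL (Fin d) F) : Mat) ^ i := by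
    intro i
    induction i with
    | zero => rw [pow_zero, pow_zero, adj_one]
    | succ i ih => rw [pow_succ, adj_mul, hadj, ih, pow_succ']
  by_cases hmin : ∀ P' : F[X], P' ≠ 0 → P'.natDegree < d → aeval (h : Mat) P' ≠ 0
  swap
  · push Not at hmin
    obtain ⟨P', hP', hlt, h0⟩ := hmin
    have hmon := monic_mul_leadingCoeff_inv hP'
    have hb := ord_bound h hmon (by rw [map_mul, h0, zero_mul]) hr
    rw [natDegree_mul_leadingCoeff_inv P' hP'] at hb
    change (q - 1) * r ≤ q ^ P'.natDegree - 1 at hb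
    have h2 : 2 * q ^ P'.natDegree ≤ q ^ d := by
      calc 2 * q ^ P'.natDegree ≤ q * q ^ P'.natDegree := Nat.mul_le_mul_right _ hq
        _ = q ^ (P'.natDegree + 1) := (pow_succ' _ _).symm
        _ ≤ q ^ d := Nat.pow_le_pow_right (by omega) hlt
    rw [mul_left_comm]
    omega
  set P := (h : Mat).charpoly
  have hP : P.Monic := Matrix.charpoly_monic _
  have hdeg : P.natDegree = d := by rw [Matrix.charpoly_natDegree_eq_dim, Fintype.card_fin]
  have h0 : aeval (h : Mat) P = 0 := Matrix.aeval_self_charpoly _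
  by_cases hroots : ∀ t : Fˣ, P.IsRoot (t : F)
  · obtain ⟨hk, hb⟩ := ord_bound_roots h hP h0 (fun P' h1 h2 => hmin P' h1 (hdeg ▸ h2)) hroots hr
    rw [hdeg] at hk hb
    set a := q - 1 with ha
    have hqa : q = a + 1 := by omega
    have hbe : 2 * a ^ a ≤ q ^ a := by
      have := bernoulli a
      rw [if_neg (by omega), add_zero] at this
      rwa [hqa]
    have hle : 2 * (a * r) ≤ q ^ d := by
      calc 2 * (a * r) ≤ 2 * (a ^ a * q ^ (d - a)) := Nat.mul_le_mul_left _ hb
        _ = 2 * a ^ a * q ^ (d - a) := (mul_assoc _ _ _).symm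
        _ ≤ q ^ a * q ^ (d - a) := Nat.mul_le_mul_right _ hbe
        _ = q ^ d := by rw [← pow_add, Nat.add_sub_cancel' hk]
    have hne : 2 * (a * r) ≠ q ^ d := by
      intro he
      have hdvd : a ∣ q ^ d := ⟨2 * r, by rw [← he]; ring⟩
      have hcop : Nat.Coprime a q := by rw [hqa]; exact Nat.coprime_self_add_right.mpr (Nat.coprime_one_right a)
      have ha1 : a = 1 := Nat.eq_one_of_dvd_coprimes (hcop.pow_right d) dvd_rfl hdvd
      have hq2 : q = 2 := by omega
      have hd4 : 4 ≤ d := by
        by_contra hc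
        exact h32 ⟨by omega, hq2⟩
      rw [ha1, one_mul, hq2] at he
      have hr2 : r = 2 ^ (d - 1) := by
        have : 2 ^ d = 2 * 2 ^ (d - 1) := by rw [← pow_succ']; congr 1; omega
        omega
      haveI hchar : CharP Mat 2 := by
        have hF2 : (2 : F) = 0 := by
          have := Nat.cast_card_eq_zero F
          rw [← Nat.card_eq_fintype_card, show Nat.card F = 2 from hq2] at this
          exact_mod_cast this
        haveI : CharP F 2 := CharTwo.of_one_ne_zero_of_two_eq_zero one_ne_zero hF2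
        exact charP_of_injective_algebraMap (algebraMap F Mat).injective 2
      haveI : Fact (Nat.Prime 2) := ⟨Nat.prime_two⟩
      have hsub : ∀ e, ((h : Mat) - 1) ^ 2 ^ e = (h : Mat) ^ 2 ^ e - 1 := fun e => by
        rw [sub_pow_char_pow_of_commute (p := 2) (h := Commute.one_right _), one_pow]
      have hone : (h : Mat) ^ r = 1 := by
        have e1 : semiAut (h ^ r) (RingEquiv.refl F) = 1 :=
          (map_pow (innDiagHom d F) h r).trans (pow_orderOf_eq_one _)
        obtain ⟨-, c, hc⟩ := semiAut_eq_one (by omega) e1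
        have hc0 : c ≠ 0 := fun e => Matrix.GeneralLinearGroup.det_ne_zero (h ^ r) (by
          have : NeZero d := ⟨by omega⟩
          rw [hc, e, zero_smul, Matrix.det_zero])
        have hc1 : c = 1 := by
          have h3 : Fintype.card F = 2 := by rw [← Nat.card_eq_fintype_card]; exact hq2
          have := FiniteField.pow_card_sub_one_eq_one c hc0
          rwa [h3, show 2 - 1 = 1 from rfl, pow_one] at this
        rw [← Units.val_pow_eq_pow_val, hc, hc1, one_smul]
      have hnil : IsNilpotent ((h : Mat) - 1) := ⟨2 ^ (d - 1), by rw [hsub, ← hr2, hone, sub_self]⟩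
      have hz : ((h : Mat) - 1) ^ 2 ^ (d - 2) = 0 := pow_eq_zero_of_le (le_two_pow_sub_two hd4) (nilpotent_pow hnil)
      rw [hsub, sub_eq_zero] at hz
      have hlt : 2 ^ (d - 2) < r := by rw [hr2]; exact Nat.pow_lt_pow_right (by norm_num) (by omega)
      exact hr _ (by positivity) hlt 1 (by rw [hz, map_one])
    rw [mul_left_comm]
    omega
  · push Not at hroots
    obtain ⟨t', ht'⟩ := hroots
    set t : F := -(t' : F) with ht
    set Q : F[X] := X + C t with hQ
    have hQunit : IsUnit (aeval (h : Mat) Q) := by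
      obtain ⟨Q₁, hQ₁⟩ : X - C (t' : F) ∣ P - C (P.eval (t' : F)) := dvd_iff_isRoot.mpr (by simp)
      have hQX : Q = X - C (t' : F) := by rw [hQ, ht, map_neg, sub_eq_add_neg]
      have e := congrArg (aeval (h : Mat)) hQ₁
      rw [map_sub, h0, map_mul, aeval_C, zero_sub, ← hQX] at e
      have hu : IsUnit (aeval (h : Mat) Q * aeval (h : Mat) Q₁) := by
        rw [← e, IsUnit.neg_iff]
        exact IsUnit.map (algebraMap F Mat) (isUnit_iff_ne_zero.mpr ht')
      exact ((Commute.all Q Q₁).map (aeval (h : Mat))).isUnit_mul_iff.mp hu |>.1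
    have hb := ord_bound_two h hP h0 hr Q hQunit (by
      intro i l c e
      have hQh : aeval (h : Mat) Q = (h : Mat) + t • 1 := by
        rw [hQ, map_add, aeval_X, aeval_C, Algebra.algebraMap_eq_smul_one]
      rw [hQh, Algebra.algebraMap_eq_smul_one, smul_mul_assoc, one_mul] at e
      have e2 := congrArg (adj g σ) e
      rw [adj_mul, adj_add, adj_smul, adj_smul, adj_one, hadj, hadjpow, hadjpow] at e2
      have hpi : ∀ j, (h : Mat) ^ j * ((h⁻¹ : GL (Fin d) F) : Mat) ^ j = 1 := fun j => by
        rw [← Units.val_pow_eq_pow_val, ← Units.val_pow_eq_pow_val, inv_pow, Units.mul_inv]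
      have e3 : ((h : Mat) + t • 1) * (((h⁻¹ : GL (Fin d) F) : Mat) + σ t • 1) = (c * σ c) • (1 : Mat) := by
        calc _ = ((h : Mat) + t • 1) * ((h : Mat) ^ i * ((h⁻¹ : GL (Fin d) F) : Mat) ^ i) *
              (((h⁻¹ : GL (Fin d) F) : Mat) + σ t • 1) := by rw [hpi, mul_one]
          _ = ((h : Mat) + t • 1) * (h : Mat) ^ i *
              (((h⁻¹ : GL (Fin d) F) : Mat) ^ i * (((h⁻¹ : GL (Fin d) F) : Mat) + σ t • 1)) := by
            simp only [mul_assoc]
          _ = _ := by rw [e, e2, smul_mul_smul_comm, hpi]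
      have e4 := congrArg (fun M => M * (h : Mat)) e3
      simp only [add_mul, mul_add, smul_mul_assoc, mul_smul_comm, one_mul, mul_one, smul_smul,
        mul_assoc, h.inv_mul] at e4
      set b : F := 1 + t * σ t - c * σ c with hb'
      refine hmin (C (σ t) * X ^ 2 + C b * X + C t) ?_ ?_ ?_
      · intro hz
        have := congrArg (fun p : F[X] => p.coeff 0) hz
        simp at this
        exact t'.ne_zero (by simpa [ht] using this)
      · exact lt_of_le_of_lt natDegree_quadratic_le (by omega)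
      · rw [map_add, map_add, map_mul, map_mul, map_pow, aeval_X, aeval_C, aeval_C, aeval_C, ← Algebra.smul_def,
          ← Algebra.smul_def, Algebra.algebraMap_eq_smul_one, pow_two, hb', sub_smul, add_smul, one_smul]
        linear_combination (norm := module) e4)
    rw [hdeg] at hb
    rw [mul_left_comm]
    exact hb

end CfsgLib.MaxOrder
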