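import Cfsg.Agent.MaxOrder.Main

/-!
A Singer element of `PGL_d`, and the exact maximum of the element orders of the automorphisms of `PSL_d`.
-/

set_option autoImplicit false
set_option linter.unusedSectionVars false
set_option linter.style.haveILetI false

open Matrix

namespace CfsgLib.MaxOrder

open CfsgLib.AutPSL

variable {F : Type*} [Field F] [Finite F] {d : ℕ}

theorem aut_order_le (hd : 2 ≤ d) (h24 : ¬ (d = 2 ∧ Nat.card F = 4)) (h32 : ¬ (d = 3 ∧ Nat.card F = 2))
    (φ : MulAut (Matrix.ProjectiveSpecialLinearGroup (Fin d) F)) :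
    (Nat.card F - 1) * orderOf φ ≤ Nat.card F ^ d - 1 := by
  classical
  haveI : Finite (RingAut F) := Finite.of_injective (fun τ : RingAut F => (τ : F → F)) DFunLike.coe_injective
  have hq : 1 ≤ Nat.card F := Nat.one_le_iff_ne_zero.mpr Nat.card_pos.ne'
  rw [← sub_one_mul_geo _ d hq]
  by_cases hsemi : ∃ (g : GL (Fin d) F) (σ : RingAut F), φ = semiAut g σ
  · obtain ⟨g, σ, rfl⟩ := hsemi
    refine Nat.mul_le_mul_left _ ?_
    set m := orderOf σ
    have hm : 1 ≤ m := (isOfFinOrder_of_finite σ).orderOf_pos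
    exact (semi_le hd g σ rfl hm).trans
      (pow_mul_geo_le (card_fixField_pow σ rfl) hd Finite.one_lt_card hm h24)
  have hd3 : 3 ≤ d := by
    by_contra h
    obtain rfl : d = 2 := by omega
    exact hsemi (exists_semi_two φ)
  obtain ⟨g, σ, rfl | rfl⟩ := exists_semi_or_semi_invTrans hd φ
  · exact absurd ⟨g, σ, rfl⟩ hsemi
  have hle : orderOf (semiAut g σ * invTrans) ≤ 2 * orderOf ((semiAut g σ * invTrans) ^ 2) := by
    refine Nat.le_of_dvd (Nat.mul_pos two_pos (isOfFinOrder_of_finite _).orderOf_pos)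
      (orderOf_dvd_of_pow_eq_one ?_)
    rw [pow_mul, pow_orderOf_eq_one]
  rw [pow_two, semiAut_graph_mul] at hle
  by_cases hσ : σ * σ = 1
  · have hb := graph_le hd3 h32 g (σ := σ) (by rw [pow_two]; exact hσ)
    rw [sub_one_mul_geo _ d hq]
    rw [hσ] at hle
    exact (Nat.mul_le_mul_left _ hle).trans hb
  refine Nat.mul_le_mul_left _ (hle.trans ?_)
  set ρ : RingAut F := σ * σ
  set m := orderOf ρ with hm
  have hm2 : 2 ≤ m := by
    have h1 : 0 < m := (isOfFinOrder_of_finite ρ).orderOf_pos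
    have h2 : m ≠ 1 := fun e => hσ (orderOf_eq_one_iff.mp e)
    omega
  have hx : m = 2 → 4 ≤ Nat.card (fixField ρ) := by
    intro e
    have h4 : orderOf σ = 4 := by
      haveI : Fact (Nat.Prime 2) := ⟨Nat.prime_two⟩
      refine orderOf_eq_prime_pow (p := 2) (n := 1) (by rwa [pow_one, pow_two]) ?_
      rw [show (2 : ℕ) ^ (1 + 1) = 2 * 2 from rfl, pow_mul, pow_two σ, ← e]
      exact pow_orderOf_eq_one ρ
    have h5 := card_fixField_pow σ h4
    rw [← card_fixField_pow ρ (hm.symm.trans e), show (4 : ℕ) = 2 * 2 from rfl, pow_mul] at h5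
    rw [← Nat.pow_left_injective two_ne_zero h5]
    have h6 : 2 ≤ Nat.card (fixField σ) := Finite.one_lt_card
    calc 4 = 2 ^ 2 := rfl
      _ ≤ Nat.card (fixField σ) ^ 2 := Nat.pow_le_pow_left h6 2
  rw [← card_fixField_pow ρ hm.symm]
  exact ((Nat.mul_le_mul_left 2 (semi_le hd _ ρ hm.symm (by omega))).trans
    (mul_assoc 2 m _).symm.le).trans (graph_sum Finite.one_lt_card hm2 hd3 hx)

theorem exists_singer (hd : 2 ≤ d) :
    ∃ φ : MulAut (Matrix.ProjectiveSpecialLinearGroup (Fin d) F),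
      Nat.card F ^ d - 1 ≤ (Nat.card F - 1) * orderOf φ := by
  classical
  cases nonempty_fintype F
  obtain ⟨p, hp⟩ := CharP.exists F
  haveI := hp
  haveI : Fact p.Prime := ⟨CharP.char_is_prime F p⟩
  haveI : NeZero d := ⟨by omega⟩
  let E := FiniteField.Extension F p d
  let b : Module.Basis (Fin d) F E := Module.finBasisOfFinrankEq F E (FiniteField.finrank_extension F p d)
  let L : E →ₐ[F] Matrix (Fin d) (Fin d) F := Algebra.leftMulMatrix b
  obtain ⟨ζ, hζ⟩ := IsCyclic.exists_generator (α := Eˣ)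
  let g : GL (Fin d) F := Units.map (L : E →* Matrix (Fin d) (Fin d) F) ζ
  refine ⟨semiAut g (RingEquiv.refl F), ?_⟩
  set r := orderOf (semiAut g (RingEquiv.refl F))
  have hr0 : 0 < r := (isOfFinOrder_of_finite _).orderOf_pos
  have h1 : semiAut (g ^ r) (RingEquiv.refl F) = 1 :=
    (map_pow (innDiagHom d F) g r).trans (pow_orderOf_eq_one _)
  obtain ⟨-, c, hc⟩ := semiAut_eq_one hd h1
  have h2 : (ζ : E) ^ r = algebraMap F E c := by
    refine Algebra.leftMulMatrix_injective b ?_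
    show L ((ζ : E) ^ r) = L (algebraMap F E c)
    rw [map_pow, AlgHom.commutes, Algebra.algebraMap_eq_smul_one, ← hc, Units.val_pow_eq_pow_val]
    rfl
  have hc0 : c ≠ 0 := fun e => by
    rw [e, map_zero] at h2
    exact (ζ.isUnit.pow r).ne_zero h2
  have h3 : ζ ^ (r * (Nat.card F - 1)) = 1 := by
    refine Units.ext ?_
    rw [Units.val_pow_eq_pow_val, pow_mul, h2, ← map_pow, Nat.card_eq_fintype_card,
      FiniteField.pow_card_sub_one_eq_one c hc0, map_one, Units.val_one]
  have h4 := orderOf_dvd_of_pow_eq_one h3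
  rw [orderOf_eq_card_of_forall_mem_zpowers hζ, Nat.card_units, FiniteField.natCard_extension, mul_comm] at h4
  refine Nat.le_of_dvd (Nat.mul_pos ?_ hr0) h4
  have : 1 < Nat.card F := Finite.one_lt_card
  omega

theorem aut_max_order (hd : 2 ≤ d) (h24 : ¬ (d = 2 ∧ Nat.card F = 4)) (h32 : ¬ (d = 3 ∧ Nat.card F = 2)) :
    ∃ φ : MulAut (Matrix.ProjectiveSpecialLinearGroup (Fin d) F),
      (Nat.card F - 1) * orderOf φ = Nat.card F ^ d - 1 := by
  obtain ⟨φ, hφ⟩ := exists_singer (F := F) hd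
  exact ⟨φ, le_antisymm (aut_order_le hd h24 h32 φ) hφ⟩

end CfsgLib.MaxOrder
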