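import Cfsg.Agent.MaxOrder.Arith

/-!
The arithmetic of the element orders of `PGU_n(q)`: pieces `(δ, L)` of semisimple size `δ` and nilpotency `L`.
-/

set_option autoImplicit false

namespace CfsgLib.MaxOrderU

open CfsgLib.MaxOrder (mul_le_two_pow)

/-- The order of the torus of size `δ`. -/
def uN (q δ : ℕ) : ℕ := if Odd δ then q ^ δ + 1 else q ^ δ - 1

/-- The least common multiple of the tori. -/
def uLcm (q : ℕ) : List (ℕ × ℕ) → ℕ
  | [] => 1
  | x :: P => Nat.lcm (uN q x.1) (uLcm q P)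

/-- The semisimple size. -/
def dS (P : List (ℕ × ℕ)) : ℕ := (P.map Prod.fst).sum

/-- The size. -/
def nS (P : List (ℕ × ℕ)) : ℕ := (P.map fun x => x.1 * x.2).sum

/-- The largest order of an element of `PGU_n(q)`. -/
def target (p q n : ℕ) : ℕ :=
  if Odd n then (if q = p then (p ^ (n - 2) + 1) * p else q ^ (n - 1) - 1)
  else if q = 2 then 4 * (2 ^ (n - 3) + 1) else q ^ (n - 1) + 1

theorem uN_odd {q δ : ℕ} (h : Odd δ) : uN q δ = q ^ δ + 1 := if_pos h

theorem uN_even {q δ : ℕ} (h : Even δ) : uN q δ = q ^ δ - 1 := if_neg (Nat.not_odd_iff_even.2 h)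

theorem uN_le (q δ : ℕ) : uN q δ ≤ q ^ δ + 1 := by
  unfold uN; split_ifs <;> omega

theorem uN_pos {q δ : ℕ} (hq : 2 ≤ q) (hδ : 1 ≤ δ) : 0 < uN q δ := by
  have : q ≤ q ^ δ := Nat.le_self_pow (by omega) q
  unfold uN; split_ifs <;> omega

theorem succ_dvd_uN (q δ : ℕ) : q + 1 ∣ uN q δ := by
  rcases Nat.even_or_odd δ with ⟨m, rfl⟩ | h
  · rw [uN_even ⟨m, rfl⟩, ← two_mul, pow_mul]
    have h1 : q ^ 2 - 1 ∣ (q ^ 2) ^ m - 1 := by simpa using Nat.sub_dvd_pow_sub_pow (q ^ 2) 1 m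
    exact ((Dvd.intro _ (by simpa using (Nat.sq_sub_sq q 1).symm) : q + 1 ∣ q ^ 2 - 1)).trans h1
  · rw [uN_odd h]
    simpa using h.nat_add_dvd_pow_add_pow q 1

theorem uN_one (q : ℕ) : uN q 1 = q + 1 := by rw [uN_odd odd_one, pow_one]

theorem uN_div_le {q δ : ℕ} (hq : 2 ≤ q) (hδ : 1 ≤ δ) : uN q δ / (q + 1) ≤ q ^ (δ - 1) := by
  refine Nat.div_le_of_le_mul ?_
  obtain ⟨t, rfl⟩ : ∃ t, δ = t + 1 := ⟨δ - 1, by omega⟩
  have h1 := uN_le q (t + 1)
  have : 1 ≤ q ^ t := Nat.one_le_pow _ _ (by omega)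
  rw [Nat.add_sub_cancel, add_mul, one_mul, ← pow_succ']
  omega

theorem dvd_uLcm (q : ℕ) : ∀ P : List (ℕ × ℕ), ∀ x ∈ P, uN q x.1 ∣ uLcm q P
  | y :: P, x, hx => by
    rcases List.mem_cons.1 hx with rfl | hx
    · exact Nat.dvd_lcm_left _ _
    · exact (dvd_uLcm q P x hx).trans (Nat.dvd_lcm_right _ _)

theorem uLcm_pos {q : ℕ} (hq : 2 ≤ q) : ∀ P : List (ℕ × ℕ), (∀ x ∈ P, 1 ≤ x.1) → 0 < uLcm q P
  | [], _ => Nat.one_pos
  | x :: P, h => Nat.lcm_pos (uN_pos hq (h x (List.mem_cons_self ..)))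
      (uLcm_pos hq P fun y hy => h y (List.mem_cons_of_mem _ hy))

theorem length_le_dS : ∀ P : List (ℕ × ℕ), (∀ x ∈ P, 1 ≤ x.1) → P.length ≤ dS P
  | [], _ => Nat.zero_le _
  | x :: P, h => by
    have h1 := h x (List.mem_cons_self ..)
    have h2 := length_le_dS P fun y hy => h y (List.mem_cons_of_mem _ hy)
    simp only [dS, List.map_cons, List.sum_cons, List.length_cons] at h2 ⊢
    omega

theorem uLcm_le {q : ℕ} (hq : 2 ≤ q) : ∀ P : List (ℕ × ℕ), P ≠ [] → (∀ x ∈ P, 1 ≤ x.1) →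
    uLcm q P ≤ (q + 1) * q ^ (dS P - P.length)
  | [], h, _ => absurd rfl h
  | [x], _, h => by
    have h1 := h x (List.mem_cons_self ..)
    rw [show uLcm q [x] = uN q x.1 by simp [uLcm], show dS [x] - [x].length = x.1 - 1 by simp [dS]]
    calc uN q x.1 = (q + 1) * (uN q x.1 / (q + 1)) := (Nat.mul_div_cancel' (succ_dvd_uN q _)).symm
      _ ≤ _ := Nat.mul_le_mul_left _ (uN_div_le hq h1)
  | x :: y :: P, _, h => by
    have h1 := h x (List.mem_cons_self ..)
    have hP : ∀ z ∈ y :: P, 1 ≤ z.1 := fun z hz => h z (List.mem_cons_of_mem _ hz)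
    have ih := uLcm_le hq (y :: P) (by simp) hP
    have hl := length_le_dS (y :: P) hP
    have hd : q + 1 ∣ uLcm q (y :: P) := (succ_dvd_uN q y.1).trans (dvd_uLcm q _ y (List.mem_cons_self ..))
    have h2 : uLcm q (x :: y :: P) ≤ uN q x.1 / (q + 1) * uLcm q (y :: P) := by
      refine Nat.le_of_dvd (Nat.mul_pos (Nat.div_pos (Nat.le_of_dvd (uN_pos hq h1) (succ_dvd_uN q _)) (by omega))
        (uLcm_pos hq _ hP)) (Nat.lcm_dvd ?_ (dvd_mul_left _ _))
      conv_lhs => rw [← Nat.div_mul_cancel (succ_dvd_uN q x.1)]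
      exact mul_dvd_mul_left _ hd
    refine h2.trans ((Nat.mul_le_mul (uN_div_le hq h1) ih).trans (le_of_eq ?_))
    rw [mul_left_comm, ← pow_add]
    congr 2
    simp only [dS, List.map_cons, List.sum_cons, List.length_cons] at hl ⊢
    omega

theorem dS_add_le : ∀ P : List (ℕ × ℕ), (∀ x ∈ P, 1 ≤ x.2) → ∀ x ∈ P, dS P + x.1 * (x.2 - 1) ≤ nS P
  | y :: P, h, x, hx => by
    have hP : ∀ z ∈ P, 1 ≤ z.2 := fun z hz => h z (List.mem_cons_of_mem _ hz)
    have hy := h y (List.mem_cons_self ..)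
    have hyy : y.1 + y.1 * (y.2 - 1) = y.1 * y.2 := by
      rw [Nat.mul_sub, mul_one, Nat.add_sub_cancel' (Nat.le_mul_of_pos_right _ hy)]
    simp only [dS, nS, List.map_cons, List.sum_cons]
    rcases List.mem_cons.1 hx with rfl | hx
    · have : ∀ Q : List (ℕ × ℕ), (∀ z ∈ Q, 1 ≤ z.2) → dS Q ≤ nS Q := by
        intro Q hQ
        induction Q with
        | nil => simp [dS, nS]
        | cons z Q ihQ =>
          have h1 := ihQ fun w hw => hQ w (List.mem_cons_of_mem _ hw)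
          have h2 := Nat.le_mul_of_pos_right z.1 (hQ z (List.mem_cons_self ..))
          simp only [dS, nS, List.map_cons, List.sum_cons] at h1 ⊢
          omega
      have := this P hP
      simp only [dS, nS] at this
      omega
    · have := dS_add_le P hP x hx
      simp only [dS, nS] at this
      omega

/-! ### Powers of `p` -/

theorem clog_le_mul {p L : ℕ} (hp : 2 ≤ p) (hL : 2 ≤ L) : p ^ Nat.clog p L ≤ p * (L - 1) := by
  have h := Nat.pow_pred_clog_lt_self (by omega : 1 < p) (by omega : 1 < L)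
  obtain ⟨t, ht⟩ : ∃ t, Nat.clog p L = t + 1 := ⟨_, (Nat.succ_pred_eq_of_pos (Nat.clog_pos (by omega) hL)).symm⟩
  rw [ht] at h ⊢
  rw [Nat.pred_succ] at h
  rw [pow_succ']
  exact Nat.mul_le_mul_left _ (by omega)

theorem clog_le_pow {p q L : ℕ} (hp : 2 ≤ p) (hpq : p ≤ q) (hL : 1 ≤ L) : p ^ Nat.clog p L ≤ q ^ (L - 1) := by
  rcases Nat.lt_or_ge L 2 with h | h
  · obtain rfl : L = 1 := by omega
    simp
  · obtain ⟨t, rfl⟩ : ∃ t, L = t + 2 := ⟨L - 2, by omega⟩
    refine le_trans (clog_le_mul hp h) ?_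
    rw [show t + 2 - 1 = t + 1 from rfl, pow_succ']
    exact Nat.mul_le_mul hpq ((mul_le_two_pow (m := t + 1) (by omega)).trans (Nat.pow_le_pow_left (by omega) t))

theorem two_mul_le_two_pow : ∀ t : ℕ, 2 * (t + 4) ≤ 2 ^ (t + 3)
  | 0 => by norm_num
  | t + 1 => by
    have := two_mul_le_two_pow t
    rw [pow_succ]; omega

theorem clog_half {p q L : ℕ} (hp : 2 ≤ p) (hpq : p ≤ q) (hL : 4 ≤ L) : 2 * p ^ Nat.clog p L ≤ q ^ (L - 1) := by
  refine le_trans ?_ (Nat.pow_le_pow_left hpq _)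
  rcases Nat.lt_or_ge L 5 with h | h
  · obtain rfl : L = 4 := by omega
    rcases Nat.lt_or_ge p 3 with h2 | h2
    · obtain rfl : p = 2 := by omega
      rw [show Nat.clog 2 4 = 2 from by decide +kernel]
      norm_num
    · refine (Nat.mul_le_mul_left 2 (clog_le_mul hp (by norm_num : 2 ≤ 4))).trans ?_
      norm_num
      rw [show p ^ 3 = p * p * p by ring]
      nlinarith [Nat.mul_le_mul (Nat.mul_le_mul h2 h2) (le_refl p)]
  · obtain ⟨t, rfl⟩ : ∃ t, L = t + 5 := ⟨L - 5, by omega⟩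
    refine (Nat.mul_le_mul_left 2 (clog_le_mul hp (by omega : 2 ≤ t + 5))).trans ?_
    rw [show t + 5 - 1 = t + 4 from rfl, pow_succ', mul_left_comm]
    exact Nat.mul_le_mul_left _ ((two_mul_le_two_pow t).trans (Nat.pow_le_pow_left hp _))

theorem clog_two {p : ℕ} (hp : 2 ≤ p) : p ^ Nat.clog p 2 = p := by
  rw [Nat.clog_eq_one le_rfl hp, pow_one]

theorem clog_three {p : ℕ} (hp : 3 ≤ p) : p ^ Nat.clog p 3 = p := by
  rw [Nat.clog_eq_one (by omega) hp, pow_one]

/-! ### The bounds -/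

theorem pow_lt_target (p q n : ℕ) (hn : 3 ≤ n) (hq : 2 ≤ q) : q ^ (n - 1) ≤ target p q n + 1 := by
  unfold target
  obtain ⟨t, rfl⟩ : ∃ t, n = t + 3 := ⟨n - 3, by omega⟩
  rw [show t + 3 - 1 = t + 2 from rfl, show t + 3 - 2 = t + 1 from rfl, Nat.add_sub_cancel]
  split_ifs with h1 h2 h2
  · subst h2
    rw [add_mul, ← pow_succ, one_mul, show t + 1 + 1 = t + 2 from rfl]; omega
  · omega
  · subst h2
    rw [mul_add, pow_succ, pow_succ]; omega
  · omega

theorem even_le_target (p q n : ℕ) (hn : 3 ≤ n) (h : Even n) : q ^ (n - 1) + 1 ≤ target p q n := by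
  obtain ⟨t, rfl⟩ : ∃ t, n = t + 3 := ⟨n - 3, by omega⟩
  rw [target, if_neg (Nat.not_odd_iff_even.2 h), show t + 3 - 1 = t + 2 from rfl, Nat.add_sub_cancel]
  split_ifs with h2
  · subst h2; rw [pow_succ, pow_succ]; omega
  · omega

theorem le_target_of_crude {p q n a D : ℕ} {L : ℕ} (hn : 3 ≤ n) (hq : 2 ≤ q) (hL : 1 ≤ L)
    (ha : a ≤ q ^ (L - 1)) (hD : D + L + 2 ≤ n) : a * ((q + 1) * q ^ D) ≤ target p q n := by
  have h1 : a * ((q + 1) * q ^ D) ≤ (q + 1) * q ^ (n - 3) :=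
    calc a * ((q + 1) * q ^ D) ≤ q ^ (L - 1) * ((q + 1) * q ^ D) := Nat.mul_le_mul_right _ ha
      _ = (q + 1) * q ^ (L - 1 + D) := by rw [pow_add]; ring
      _ ≤ _ := Nat.mul_le_mul_left _ (Nat.pow_le_pow_right (by omega) (by omega))
  have h2 : (q + 1) * q ^ (n - 3) < q ^ (n - 1) := by
    rw [show n - 1 = 2 + (n - 3) by omega, pow_add]
    exact Nat.mul_lt_mul_of_pos_right (by nlinarith) (Nat.pow_pos (by omega))
  have := pow_lt_target p q n hn hq
  omega

theorem le_target_tight {p q n : ℕ} (hp : 2 ≤ p) (hpq : p ≤ q) (hne : q ≠ p → 2 * p ≤ q) (hn : 3 ≤ n) {L δ : ℕ}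
    (hL : 2 ≤ L) (hδ : 1 ≤ δ) (he : L + δ = n) : p ^ Nat.clog p L * uN q δ ≤ target p q n := by
  have hlt := pow_lt_target p q n hn (hp.trans hpq)
  have hX : 2 ≤ q ^ δ := (hp.trans hpq).trans (Nat.le_self_pow (by omega) q)
  have hN := uN_le q δ
  rcases Nat.lt_or_ge L 4 with h4 | h4
  · rcases (show L = 2 ∨ L = 3 by omega) with rfl | rfl
    · rw [clog_two hp]
      obtain ⟨t, rfl⟩ : ∃ t, δ = t + 1 := ⟨δ - 1, by omega⟩
      subst he
      rw [show 2 + (t + 1) - 1 = t + 1 + 1 by omega, pow_succ] at hlt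
      rcases Nat.even_or_odd (t + 1) with hev | hod
      · have h1 := even_le_target p q _ hn (even_two.add hev)
        rw [show 2 + (t + 1) - 1 = t + 1 + 1 by omega, pow_succ] at h1
        have h2 : p * uN q (t + 1) ≤ q ^ (t + 1) * q :=
          (Nat.mul_le_mul hpq (show uN q (t + 1) ≤ q ^ (t + 1) by rw [uN_even hev]; omega)).trans (le_of_eq (mul_comm _ _))
        omega
      · by_cases hqp : q = p
        · subst hqp
          rw [uN_odd hod, target, if_pos (even_two.add_odd hod), if_pos rfl, show 2 + (t + 1) - 2 = t + 1 by omega,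
            mul_comm]
        · have h1 : 2 * p * q ^ (t + 1) ≤ q * q ^ (t + 1) := Nat.mul_le_mul_right _ (hne hqp)
          have h2 : p * 2 ≤ p * q ^ (t + 1) := Nat.mul_le_mul_left _ hX
          rw [uN_odd hod, mul_add, mul_one]
          rw [mul_comm q (q ^ (t + 1)), mul_assoc] at h1
          omega
    · have hexp : n - 1 = 2 + δ := by omega
      rw [hexp, pow_add, sq] at hlt
      rcases Nat.lt_or_ge p 3 with h3 | h3
      · obtain rfl : p = 2 := by omega
        rw [show Nat.clog 2 3 = 2 from by decide +kernel]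
        by_cases hq2 : q = 2
        · subst hq2
          rcases Nat.even_or_odd δ with hev | hod
          · rw [uN_even hev]
            norm_num at hlt ⊢
            omega
          · subst he
            rw [uN_odd hod, target, if_neg (Nat.not_odd_iff_even.2 ((by decide : Odd 3).add_odd hod)), if_pos rfl,
              show 3 + δ - 3 = δ by omega]
            norm_num
        · have h4q : 4 ≤ q := hne hq2
          have h1 : 16 * q ^ δ ≤ q * q * q ^ δ := Nat.mul_le_mul_right _ (Nat.mul_le_mul h4q h4q)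
          norm_num
          omega
      · rw [clog_three h3]
        have h1 : 3 * p * q ^ δ ≤ q * q * q ^ δ := Nat.mul_le_mul_right _ (Nat.mul_le_mul (h3.trans hpq) hpq)
        have h2 : p * uN q δ ≤ p * (2 * q ^ δ) := Nat.mul_le_mul_left _ (by omega)
        have h3' : 0 < p * q ^ δ := by positivity
        rw [← mul_assoc, mul_comm p 2, mul_assoc] at h2
        rw [mul_assoc 3] at h1
        omega
  · have h1 : 2 * (p ^ Nat.clog p L * uN q δ) ≤ q ^ (L - 1) * (q ^ δ + 1) := by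
      rw [← mul_assoc]; exact Nat.mul_le_mul (clog_half hp hpq h4) hN
    rw [show n - 1 = L - 1 + δ by omega, pow_add] at hlt
    rw [mul_add, mul_one] at h1
    have h2 : q ^ (L - 1) * 2 ≤ q ^ (L - 1) * q ^ δ := Nat.mul_le_mul_left _ hX
    have h3 : 0 < q ^ (L - 1) := Nat.pow_pos (by omega)
    omega

theorem pair_eq_bound {q a b : ℕ} (hq : 2 ≤ q) (ha : 1 ≤ a) (hb : 1 ≤ b) (hab : 3 ≤ a + b) (h : Odd (a + b))
    (hao : Odd a) : uN q a * uN q b ≤ (q + 1) * (q ^ (a + b - 1) - 1) := by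
  have hbe : Even b := by
    rcases Nat.even_or_odd b with hb' | hb'
    · exact hb'
    · exact absurd (hao.add_odd hb') (Nat.not_even_iff_odd.2 h)
  rw [uN_odd hao, uN_even hbe]
  obtain ⟨s, rfl⟩ : ∃ s, a = s + 1 := ⟨a - 1, by omega⟩
  rw [show s + 1 + b - 1 = s + b by omega, Nat.mul_sub, Nat.mul_sub, mul_one, mul_one, add_mul, add_mul, one_mul,
    one_mul, ← pow_add, ← pow_succ', show s + 1 + b = s + b + 1 by omega]
  have hb2 : q ≤ q ^ b := Nat.le_self_pow (by omega) q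
  rcases Nat.eq_zero_or_pos s with rfl | hs
  · simp
  · have h1 : q ≤ q ^ (s + 1) := Nat.le_self_pow (by omega) q
    have h2 : q ^ b * 2 ≤ q ^ b * q ^ s := Nat.mul_le_mul_left _ (hq.trans (Nat.le_self_pow (by omega) q))
    rw [pow_add q s b, mul_comm (q ^ s)] at *
    omega

theorem le_target_pair {p q n : ℕ} (hq : 2 ≤ q) (hn : 3 ≤ n) {a b : ℕ} (ha : 1 ≤ a) (hb : 1 ≤ b)
    (he : a + b = n) : Nat.lcm (uN q a) (uN q b) ≤ target p q n := by
  have hd : Nat.lcm (uN q a) (uN q b) * (q + 1) ≤ uN q a * uN q b := by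
    rw [← Nat.gcd_mul_lcm (uN q a) (uN q b), mul_comm (Nat.gcd _ _)]
    exact Nat.mul_le_mul_left _
      (Nat.le_of_dvd (Nat.gcd_pos_of_pos_left _ (uN_pos hq ha)) (Nat.dvd_gcd (succ_dvd_uN q a) (succ_dvd_uN q b)))
  refine Nat.le_of_mul_le_mul_right (hd.trans ?_) (show 0 < q + 1 by omega)
  rw [mul_comm (target p q n)]
  rcases Nat.even_or_odd n with hev | hod
  · refine le_trans ?_ (Nat.mul_le_mul_left _ (even_le_target p q n hn hev))
    refine (Nat.mul_le_mul (uN_le q a) (uN_le q b)).trans ?_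
    rw [add_mul, mul_add, mul_add, one_mul, one_mul, mul_one, ← pow_add, he, add_mul, one_mul, mul_add,
      mul_one, ← pow_succ', show n - 1 + 1 = n by omega]
    obtain ⟨s, rfl⟩ : ∃ s, a = s + 1 := ⟨a - 1, by omega⟩
    obtain ⟨t, rfl⟩ : ∃ t, b = t + 1 := ⟨b - 1, by omega⟩
    subst he
    rw [show s + 1 + (t + 1) - 1 = s + t + 1 by omega, pow_succ, pow_succ, pow_succ q (s + t), pow_add q s t]
    have h1 : 1 ≤ q ^ s := Nat.one_le_pow _ _ (by omega)
    have h2 : 1 ≤ q ^ t := Nat.one_le_pow _ _ (by omega)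
    nlinarith [Nat.mul_le_mul_left q h1, mul_nonneg (mul_nonneg (Nat.zero_le q) (Nat.zero_le (q ^ s - 1))) (Nat.zero_le (q ^ t - 1)),
      Nat.sub_add_cancel h1, Nat.sub_add_cancel h2]
  · refine le_trans ?_ (Nat.mul_le_mul_left _ (Nat.sub_le_iff_le_add.2 (pow_lt_target p q n hn hq)))
    subst he
    rcases Nat.even_or_odd a with hae | hao
    · rw [mul_comm, add_comm a b] at *
      exact pair_eq_bound hq hb ha hn hod (by
        rcases Nat.even_or_odd b with hbe | hbo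
        · exact absurd (hbe.add hae) (Nat.not_even_iff_odd.2 hod)
        · exact hbo)
    · exact pair_eq_bound hq ha hb hn hod hao

/-- The bound for at least two pieces. -/
theorem bound_multi {p q n : ℕ} (hp : 2 ≤ p) (hpq : p ≤ q) (hne : q ≠ p → 2 * p ≤ q) (hn : 3 ≤ n)
    (P : List (ℕ × ℕ)) (hpos : ∀ x ∈ P, 1 ≤ x.1 ∧ 1 ≤ x.2) (hsize : nS P = n) (hlen : 2 ≤ P.length) :
    ∃ a, (∀ x ∈ P, x.2 ≤ p ^ a) ∧ p ^ a * uLcm q P ≤ target p q n := by
  have hq : 2 ≤ q := hp.trans hpq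
  classical
  obtain ⟨z, hzP, hzmax⟩ : ∃ z ∈ P, ∀ x ∈ P, x.2 ≤ z.2 := by
    obtain ⟨z, hz, hm⟩ := Finset.exists_max_image P.toFinset (fun x => x.2)
      (by cases P <;> simp_all)
    exact ⟨z, List.mem_toFinset.1 hz, fun x hx => hm x (List.mem_toFinset.2 hx)⟩
  have hz := hpos z hzP
  refine ⟨Nat.clog p z.2, fun x hx => (hzmax x hx).trans (Nat.le_pow_clog (by omega) _), ?_⟩
  have hsum := dS_add_le P (fun x hx => (hpos x hx).2) z hzP
  have hz1 : z.2 - 1 ≤ z.1 * (z.2 - 1) := Nat.le_mul_of_pos_left _ hz.1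
  have hlen2 := length_le_dS P fun x hx => (hpos x hx).1
  have crude : dS P - P.length + z.2 + 2 ≤ n → p ^ Nat.clog p z.2 * uLcm q P ≤ target p q n := fun h =>
    (Nat.mul_le_mul_left _ (uLcm_le hq P (by intro e; simp [e] at hlen) fun x hx => (hpos x hx).1)).trans
      (le_target_of_crude hn hq hz.2 (clog_le_pow hp hpq hz.2) h)
  rcases Nat.lt_or_ge P.length 3 with h2 | h3
  · obtain ⟨⟨δ₁, L₁⟩, ⟨δ₂, L₂⟩, rfl⟩ : ∃ x y, P = [x, y] := by
      match P, hlen, h2 with
      | [x, y], _, _ => exact ⟨x, y, rfl⟩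
    have p1 := hpos (δ₁, L₁) (by simp)
    have p2 := hpos (δ₂, L₂) (by simp)
    simp only [nS, dS, List.map_cons, List.map_nil, List.sum_cons, List.sum_nil, List.length_cons, List.length_nil,
      add_zero] at hsize crude hsum p1 p2
    simp only [uLcm, Nat.lcm_one_right] at crude ⊢
    rcases Nat.lt_or_ge z.2 2 with hL | hL
    · obtain rfl : L₁ = 1 := by have := hzmax (δ₁, L₁) (by simp); simp only at this; omega
      obtain rfl : L₂ = 1 := by have := hzmax (δ₂, L₂) (by simp); simp only at this; omega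
      rw [show z.2 = 1 by omega]
      simpa using le_target_pair hq hn p1.1 p2.1 (by omega)
    · have hz2 : 2 * (z.2 - 1) ≤ z.1 * (z.2 - 1) ∨ z.1 = 1 := by
        rcases Nat.lt_or_ge z.1 2 with h | h
        · right; omega
        · left; exact Nat.mul_le_mul_right _ h
      rcases hz2 with hz2 | hz2
      · exact crude (by omega)
      have key : ∀ δ L : ℕ, 1 ≤ δ → 1 ≤ L → z.2 + δ * L = n → δ₁ + δ₂ = 1 + δ →
          Nat.lcm (uN q δ₁) (uN q δ₂) = Nat.lcm (uN q 1) (uN q δ) →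
          p ^ Nat.clog p z.2 * Nat.lcm (uN q δ₁) (uN q δ₂) ≤ target p q n := by
        intro δ L hδ hL1 hn' hs hl
        rcases Nat.lt_or_ge L 2 with h | h
        · obtain rfl : L = 1 := by omega
          rw [hl, Nat.lcm_eq_right (by rw [uN_one]; exact succ_dvd_uN q δ)]
          exact le_target_tight hp hpq hne hn hL hδ (by omega)
        · refine crude ?_
          have : δ * 2 ≤ δ * L := Nat.mul_le_mul_left _ h
          omega
      simp only [List.mem_cons, List.not_mem_nil, or_false] at hzP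
      rcases hzP with hz' | hz' <;> subst hz' <;> simp only at hz2 <;> subst hz2
      · exact key δ₂ L₂ p2.1 p2.2 (by simpa using hsize) rfl rfl
      · exact key δ₁ L₁ p1.1 p1.2 (by simp at hsize ⊢; omega) (add_comm _ _) (Nat.lcm_comm _ _)
  · exact crude (by omega)

/-- The bound for one piece, modulo scalars. -/
theorem bound_single {p q n : ℕ} (hp : 2 ≤ p) (hpq : p ≤ q) (hne : q ≠ p → 2 * p ≤ q) (hn : 3 ≤ n)
    (h32 : ¬ (n = 3 ∧ q = 2)) {δ L : ℕ} (hδ : 1 ≤ δ) (hL : 1 ≤ L) (he : δ * L = n) :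
    ∃ a, L ≤ p ^ a ∧ p ^ a * (uN q δ / (q + 1)) ≤ target p q n := by
  have hq : 2 ≤ q := hp.trans hpq
  refine ⟨Nat.clog p L, Nat.le_pow_clog (by omega) _, ?_⟩
  have hlt := pow_lt_target p q n hn hq
  rcases Nat.lt_or_ge L 2 with hL1 | hL2
  · obtain rfl : L = 1 := by omega
    rw [mul_one] at he; subst he
    rw [show Nat.clog p 1 = 0 from Nat.clog_one_right p, pow_zero, one_mul]
    obtain ⟨t, rfl⟩ : ∃ t, δ = t + 3 := ⟨δ - 3, by omega⟩
    rw [show t + 3 - 1 = t + 2 from rfl] at hlt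
    have h1 : uN q (t + 3) < (q + 1) * (q ^ (t + 2)) - q := by
      have := uN_le q (t + 3)
      have h2 : q * q ≤ q ^ (t + 2) := by rw [← sq]; exact Nat.pow_le_pow_right (by omega) (by omega)
      have h4 : 2 * q ≤ q * q := Nat.mul_le_mul_right _ hq
      rw [add_mul, one_mul, ← pow_succ', show t + 2 + 1 = t + 3 from rfl]
      omega
    have h3 : uN q (t + 3) / (q + 1) < q ^ (t + 2) := Nat.div_lt_of_lt_mul (by omega)
    omega
  · rcases Nat.lt_or_ge δ 2 with hd1 | hd2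
    · obtain rfl : δ = 1 := by omega
      rw [one_mul] at he; subst he
      rw [uN_one, Nat.div_self (by omega), mul_one]
      rcases Nat.lt_or_ge L 4 with h | h
      · obtain rfl : L = 3 := by omega
        rw [show 3 - 1 = 2 from rfl, sq] at hlt
        rcases Nat.lt_or_ge p 3 with h3 | h3
        · obtain rfl : p = 2 := by omega
          have hq2 : q ≠ 2 := fun e => h32 ⟨rfl, e⟩
          have := Nat.mul_le_mul (hne hq2) (hne hq2)
          rw [show Nat.clog 2 3 = 2 from by decide +kernel]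
          norm_num at this ⊢
          omega
        · rw [clog_three h3]
          have := Nat.mul_le_mul (h3.trans hpq) hpq
          omega
      · have h1 := clog_half hp hpq h
        have h2 : 2 ≤ q ^ (L - 1) := hq.trans (Nat.le_self_pow (by omega) q)
        omega
    · have h1 : p ^ Nat.clog p L * (uN q δ / (q + 1)) ≤ q ^ (L - 1 + (δ - 1)) := by
        rw [pow_add]; exact Nat.mul_le_mul (clog_le_pow hp hpq hL) (uN_div_le hq hδ)
      have h2 : q ^ (L - 1 + (δ - 1)) < q ^ (n - 1) := Nat.pow_lt_pow_right hq (by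
        have := Nat.mul_le_mul hd2 hL2
        have h5 : δ + L ≤ δ * L := by nlinarith
        omega)
      omega

end CfsgLib.MaxOrderU
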