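import Cfsg.Agent.MaxOrder.UArith
import Cfsg.Agent.SpecAbsorb.SUModels

/-!
Isometries of models of Hermitian spaces, and the projective order of their sums.
-/

set_option autoImplicit false
set_option linter.style.haveILetI false

namespace CfsgLib.MaxOrderU

open Module Matrix CfsgLib.Forms CfsgLib.SpecAbsorb

universe u w w'

variable {F : Type u} [Field F] [Finite F] {q : ℕ} (hF : Nat.card F = q ^ 2)

/-- A linear isometry of a nondegenerate Hermitian space of dimension `k`, of order `o`. -/
structure IsoModel (k o : ℕ) where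
  /-- the space -/
  W : Type w
  [grp : AddCommGroup W]
  [mod : Module F W]
  [fin : FiniteDimensional F W]
  /-- the form -/
  Φ : RForm F W
  /-- the isometry -/
  g : Module.End F W
  σ_eq : Φ.σ = frobQ hF
  ε_eq : Φ.ε = 1
  nondeg : Φ.Nondeg
  dim : finrank F W = k
  isom : ∀ u v, Φ.h (g u) (g v) = Φ.h u v
  ord : orderOf g = o

attribute [local instance] IsoModel.grp IsoModel.mod IsoModel.fin

variable {hF}

/-- The projective order of an orthogonal sum when the first part fixes a vector. -/
theorem exists_mk_order {k₁ k₂ o₁ o₂ n : ℕ} (M₁ : IsoModel.{u, w} (hF := hF) k₁ o₁) (M₂ : IsoModel.{u, w'} (hF := hF) k₂ o₂)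
    {w : M₁.W} (hw : w ≠ 0) (hfix : M₁.g w = w) (hn : k₁ + k₂ = n) (hn2 : 2 ≤ n) :
    ∃ g : ↥(Cfsg.GU n F q) ⧸ Subgroup.center ↥(Cfsg.GU n F q), orderOf g = Nat.lcm o₁ o₂ := by
  classical
  let Φ := hermR hF (fun u v : M₁.W × M₂.W => M₁.Φ.h u.1 v.1 + M₂.Φ.h u.2 v.2)
    (fun u v x => by simp only [Prod.fst_add, Prod.snd_add, RForm.add_left]; ring)
    (fun c u v => by simp only [Prod.smul_fst, Prod.smul_snd, RForm.smul_left]; ring)
    (fun u v => by
      rw [map_add, M₁.Φ.swap u.1, M₂.Φ.swap u.2, M₁.ε_eq, M₂.ε_eq, one_mul, one_mul, M₁.σ_eq, M₂.σ_eq])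
  have hΦ : Φ.Nondeg := fun v hv => by
    refine Prod.ext (M₁.nondeg _ fun u => ?_) (M₂.nondeg _ fun u => ?_)
    · have := hv (u, 0)
      simpa [Φ, hermR, RForm.zero_left] using this
    · have := hv (0, u)
      simpa [Φ, hermR, RForm.zero_left] using this
  let B : (M₁.W × M₂.W) →ₛₗ[frobQ hF] (M₁.W × M₂.W) →ₗ[F] F :=
    { toFun := fun v => Φ.toDual v
      map_add' := fun v v' => LinearMap.ext fun u => Φ.add_right u v v'
      map_smul' := fun c v => LinearMap.ext fun u => Φ.smul_right c u v }
  have hB : ∀ u v, B v u = Φ.h u v := fun _ _ => rfl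
  have hS : B.IsSymm := ⟨fun u v => by rw [hB, hB, Φ.swap v u, show Φ.ε = 1 from rfl, one_mul]; rfl⟩
  have hnd : B.Nondegenerate := ⟨fun x hx => hΦ x fun u => hx u, fun y hy => hΦ y fun u => by
    rw [Φ.eq_zero_comm]; exact hy u⟩
  obtain ⟨b, hb⟩ := exists_orthonormal_herm (frobQ_ne_id hF) (frobQ_invol hF)
    (finite_norm_surjective (frobQ_ne_id hF) (frobQ_invol hF)) n (M₁.W × M₂.W) B hS hnd
    (by rw [Module.finrank_prod, M₁.dim, M₂.dim, hn])
  have hh : ∀ u v, Φ.h u v = Cfsg.hermForm n F q (b.equivFun u) (b.equivFun v) := by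
    intro u v
    conv_lhs => rw [← b.sum_repr u, ← b.sum_repr v]
    rw [Φ.sum_right, Cfsg.hermForm]
    refine Finset.sum_congr rfl fun j _ => ?_
    rw [Φ.smul_right, show Φ.σ = frobQ hF from rfl, ← hB, map_sum, Finset.sum_eq_single j]
    · rw [map_smul, hb, if_pos rfl, smul_eq_mul, mul_one, frobQ_apply, mul_comm]
      rfl
    · intro i _ hij
      rw [map_smul, hb, if_neg (Ne.symm hij), smul_zero]
    · simp
  set g : Module.End F (M₁.W × M₂.W) := M₁.g.prodMap M₂.g with hg
  have hiso : ∀ u v, Φ.h (g u) (g v) = Φ.h u v := fun u v => by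
    show M₁.Φ.h (M₁.g u.1) (M₁.g v.1) + M₂.Φ.h (M₂.g u.2) (M₂.g v.2) = _
    rw [M₁.isom, M₂.isom]; rfl
  have hinj : Function.Injective g := by
    rw [← LinearMap.ker_eq_bot, LinearMap.ker_eq_bot']
    intro v hv
    refine hΦ v fun u => ?_
    rw [← hiso u v, hv, Φ.zero_right]
  set θ := LinearMap.toMatrixAlgEquiv b
  have hgu : IsUnit (θ g) :=
    ((Module.End.isUnit_iff g).2 ⟨hinj, LinearMap.injective_iff_surjective.1 hinj⟩).map θ
  obtain ⟨A, hA⟩ := hgu
  have hmem : A ∈ Cfsg.GU n F q := fun x y => by
    obtain ⟨u, rfl⟩ := b.equivFun.surjective x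
    obtain ⟨v, rfl⟩ := b.equivFun.surjective y
    have key : ∀ z, (A : Matrix (Fin n) (Fin n) F) *ᵥ b.equivFun z = b.equivFun (g z) := fun z => by
      rw [hA]; exact LinearMap.toMatrix_mulVec_repr b b g z
    show Cfsg.hermForm n F q ((A : Matrix (Fin n) (Fin n) F) *ᵥ b.equivFun u)
      ((A : Matrix (Fin n) (Fin n) F) *ᵥ b.equivFun v) = _
    rw [key, key, ← hh, ← hh, hiso]
  refine ⟨QuotientGroup.mk ⟨A, hmem⟩, ?_⟩
  have hgr : ∀ r : ℕ, g ^ r = (M₁.g ^ r).prodMap (M₂.g ^ r) := fun r => by
    induction r with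
    | zero => ext <;> simp
    | succ r ih => rw [pow_succ, ih, hg]; ext <;> simp [pow_succ]
  have hfix' : ∀ r : ℕ, (M₁.g ^ r) w = w := fun r => by
    induction r with
    | zero => rfl
    | succ r ih => rw [pow_succ, Module.End.mul_apply, hfix, ih]
  have crit : ∀ r : ℕ, (QuotientGroup.mk ⟨A, hmem⟩ : ↥(Cfsg.GU n F q) ⧸ Subgroup.center ↥(Cfsg.GU n F q)) ^ r = 1 ↔ Nat.lcm o₁ o₂ ∣ r := fun r => by
    have hval : (((⟨A, hmem⟩ : Cfsg.GU n F q) ^ r : Cfsg.GU n F q) : Matrix.GeneralLinearGroup (Fin n) F).val =
        θ (g ^ r) := by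
      rw [SubmonoidClass.coe_pow, Units.val_pow_eq_pow_val, hA, map_pow]
    rw [← QuotientGroup.mk_pow, QuotientGroup.eq_one_iff, Nat.lcm_dvd_iff, ← M₁.ord, ← M₂.ord,
      orderOf_dvd_iff_pow_eq_one, orderOf_dvd_iff_pow_eq_one]
    constructor
    · intro h
      obtain ⟨c, hc⟩ := CfsgLib.Unitary.center_GU_scalar hF hn2 h
      rw [show (c • 1 : Matrix (Fin n) (Fin n) F) = θ (algebraMap F _ c) by
        rw [AlgEquiv.commutes, Algebra.algebraMap_eq_smul_one], hval, θ.injective.eq_iff, hgr] at hc
      have h1 := congrArg Prod.fst (LinearMap.congr_fun hc (w, 0))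
      simp only [LinearMap.prodMap_apply, Module.algebraMap_end_apply, Prod.smul_fst, hfix'] at h1
      obtain rfl : c = 1 := smul_left_injective F hw (h1.symm.trans (one_smul F w).symm)
      rw [map_one] at hc
      exact ⟨LinearMap.ext fun u => by simpa using congrArg Prod.fst (LinearMap.congr_fun hc (u, 0)),
        LinearMap.ext fun u => by simpa using congrArg Prod.snd (LinearMap.congr_fun hc (0, u))⟩
    · rintro ⟨h1, h2⟩
      rw [show ((⟨A, hmem⟩ : Cfsg.GU n F q) ^ r) = 1 from Subtype.ext (Units.ext (by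
        rw [hval, hgr, h1, h2, show (1 : Module.End F M₁.W).prodMap (1 : Module.End F M₂.W) = 1 from
          LinearMap.ext fun _ => rfl, map_one]
        rfl))]
      exact Subgroup.one_mem _
  exact Nat.dvd_antisymm (orderOf_dvd_of_pow_eq_one ((crit _).2 dvd_rfl)) ((crit _).1 (pow_orderOf_eq_one _))

variable (hF)

/-- The line. -/
theorem model_one : ∃ M : IsoModel.{u, u} (hF := hF) 1 1, ∃ w : M.W, w ≠ 0 ∧ M.g w = w := by
  let Φ := hermR hF (fun u v : F => u * frobQ hF v) (fun u v w => add_mul _ _ _)
    (fun c u v => by rw [smul_eq_mul, mul_assoc]) (fun u v => by rw [map_mul, frobQ_invol, mul_comm])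
  exact ⟨{ W := F, Φ := Φ, g := 1, σ_eq := rfl, ε_eq := rfl
           nondeg := fun v hv => (frobQ hF).injective (by simpa [Φ, hermR] using hv 1)
           dim := finrank_self F, isom := fun _ _ => rfl, ord := orderOf_one }, (1 : F), one_ne_zero, rfl⟩

/-- The torus of order `q ^ m + 1`. -/
theorem model_field {m : ℕ} (hm : Odd m) : Nonempty (IsoModel.{u, 0} (hF := hF) m (q ^ m + 1)) := by
  classical
  haveI := Fintype.ofFinite F
  have hcard : Fintype.card F = q ^ 2 := by rw [← Nat.card_eq_fintype_card, hF]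
  obtain ⟨p, k, hp, hp', hq⟩ := exists_charP_pow hF
  haveI := Fact.mk hp'
  haveI : NeZero m := ⟨by rintro rfl; simp at hm⟩
  let K := FiniteField.Extension F p m
  haveI : Module.Finite F K := Module.finite_of_finrank_pos (by rw [FiniteField.finrank_extension]; exact NeZero.pos m)
  haveI : Finite K := Module.finite_of_finite F
  have hKc : Nat.card K = q ^ (2 * m) := by rw [FiniteField.natCard_extension, hF, ← pow_mul]
  have hT : q ^ m + 1 ∣ Nat.card Kˣ := by
    rw [Nat.card_units, hKc, mul_comm 2 m, pow_mul]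
    exact Dvd.intro _ (by simpa using (Nat.sq_sub_sq (q ^ m) 1).symm)
  obtain ⟨g₀, hg₀⟩ := IsCyclic.exists_ofOrder_eq_natCard (α := Kˣ)
  obtain ⟨ζ, hζ⟩ := CfsgLib.Spectrum.exists_orderOf_eq_of_dvd (orderOf_pos g₀) (hg₀ ▸ hT)
  have hxQ : (ζ : K) * (ζ : K) ^ q ^ m = 1 := by
    rw [← pow_succ', ← Units.val_pow_eq_pow_val, ← hζ, pow_orderOf_eq_one, Units.val_one]
  obtain ⟨j, hj⟩ := hm
  have hQQ : ∀ v : K, (v ^ q ^ m) ^ q ^ m = v := fun v => by
    rw [← pow_mul, ← pow_add, ← two_mul, ← hKc]
    haveI := Fintype.ofFinite K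
    rw [Nat.card_eq_fintype_card]
    exact FiniteField.pow_card v
  let Φ := hermR hF (fun u v : K => Algebra.trace F K (u * v ^ q ^ m))
    (fun u v w => by rw [add_mul, map_add]) (fun c u v => by rw [smul_mul_assoc, map_smul, smul_eq_mul])
    (fun u v => by
      rw [frobQ_apply, ← trace_pow_q hF, ← trace_pow_card_pow (F := F) K j ((u * v ^ q ^ m) ^ q), ← pow_mul,
        hcard, ← pow_mul, ← pow_succ', show 2 * j + 1 = m from hj.symm, mul_pow, hQQ, mul_comm])
  exact ⟨{ W := K, Φ := Φ, g := Algebra.lmul F K ζ, σ_eq := rfl, ε_eq := rfl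
           nondeg := fun v hv => by
             have : v ^ q ^ m = 0 := traceForm_eq_zero hv
             exact eq_zero_of_pow_eq_zero this
           dim := FiniteField.finrank_extension F p m
           isom := fun u v => by
             show Algebra.trace F K (ζ * u * (ζ * v) ^ q ^ m) = Algebra.trace F K (u * v ^ q ^ m)
             rw [mul_pow, mul_mul_mul_comm, hxQ, one_mul]
           ord := by
             exact (orderOf_injective (Algebra.lmul F K).toRingHom.toMonoidHom Algebra.lmul_injective (ζ : K)).trans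
               (orderOf_units.trans hζ) }⟩

/-- The torus of order `q ^ (2 m) - 1`. -/
theorem model_pair {m : ℕ} (hm : 1 ≤ m) : Nonempty (IsoModel.{u, 0} (hF := hF) (2 * m) (q ^ (2 * m) - 1)) := by
  classical
  haveI := Fintype.ofFinite F
  obtain ⟨p, k, hp, hp', hq⟩ := exists_charP_pow hF
  haveI := Fact.mk hp'
  haveI : NeZero m := ⟨by omega⟩
  have hq2 : 2 ≤ q := two_le_q hF
  let K := FiniteField.Extension F p m
  haveI : Module.Finite F K := Module.finite_of_finrank_pos (by rw [FiniteField.finrank_extension]; exact NeZero.pos m)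
  haveI : Finite K := Module.finite_of_finite F
  haveI : CharP K p := charP_of_injective_algebraMap (algebraMap F K).injective p
  have hπ : ∀ u v : K, (u + v) ^ q = u ^ q + v ^ q := fun u v => by rw [hq, add_pow_char_pow]
  let π : K →+* K :=
    { toFun := fun v => v ^ q
      map_one' := one_pow q
      map_mul' := fun u v => mul_pow u v q
      map_zero' := zero_pow (by omega)
      map_add' := hπ }
  have hπv : ∀ v, π v = v ^ q := fun v => rfl
  obtain ⟨y, hy⟩ := IsCyclic.exists_ofOrder_eq_natCard (α := Kˣ)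
  set x : Kˣ := (y ^ q)⁻¹ with hx
  have hxy : (x : K) * π y = 1 := by rw [hπv, ← Units.val_pow_eq_pow_val, ← Units.val_mul, hx, inv_mul_cancel, Units.val_one]
  let Φ := hermR hF (fun u v : K × K =>
      Algebra.trace F K (u.1 * π v.2) + frobQ hF (Algebra.trace F K (v.1 * π u.2)))
    (fun u v w => by simp only [Prod.fst_add, Prod.snd_add, map_add, add_mul, mul_add]; ring)
    (fun c u v => by
      have h1 : frobQ hF (Algebra.trace F K (v.1 * π (c • u).2)) =
          c * frobQ hF (Algebra.trace F K (v.1 * π u.2)) := by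
        rw [Prod.smul_snd, Algebra.smul_def, map_mul π, hπv (algebraMap F K c), ← map_pow, mul_left_comm,
          ← Algebra.smul_def, map_smul, smul_eq_mul, map_mul, ← frobQ_apply hF c, frobQ_invol]
      rw [h1, Prod.smul_fst, smul_mul_assoc, map_smul, smul_eq_mul]; ring)
    (fun u v => by rw [map_add, frobQ_invol]; ring)
  let g : Module.End F (K × K) := (Algebra.lmul F K x).prodMap (Algebra.lmul F K y)
  exact ⟨{ W := K × K, Φ := Φ, g := g, σ_eq := rfl, ε_eq := rfl
           nondeg := fun v hv => by
             have h1 : v.2 = 0 := by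
               refine π.injective ((traceForm_eq_zero (F := F) fun u => ?_).trans (map_zero π).symm)
               have := hv (u, 0)
               simpa [Φ, hermR] using this
             have h2 : v.1 = 0 := by
               refine traceForm_eq_zero (F := F) fun u => ?_
               obtain ⟨w, rfl⟩ := (Finite.injective_iff_surjective.1 π.injective) u
               have h := hv (0, w)
               simp only [Φ, hermR, zero_mul, map_zero, zero_add] at h
               rw [mul_comm]
               exact (frobQ hF).injective (h.trans (map_zero _).symm)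
             exact Prod.ext h2 h1
           dim := by rw [Module.finrank_prod, FiniteField.finrank_extension, two_mul]
           isom := fun u v => by
             show Algebra.trace F K (x * u.1 * π (y * v.2)) + frobQ hF (Algebra.trace F K (x * v.1 * π (y * u.2))) = _
             rw [map_mul π, map_mul π, mul_mul_mul_comm, hxy, one_mul, mul_mul_mul_comm, hxy, one_mul]
             rfl
           ord := by
             let φ : Kˣ →* Module.End F (K × K) :=
               { toFun := fun z => (Algebra.lmul F K ((z ^ q)⁻¹ : Kˣ)).prodMap (Algebra.lmul F K z)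
                 map_one' := by ext <;> simp
                 map_mul' := fun a b => by ext <;> simp [mul_pow, mul_comm, mul_left_comm] }
             have hφ : Function.Injective φ := fun a b h => Units.ext (by
               simpa [φ] using congrArg Prod.snd (LinearMap.congr_fun h (0, 1)))
             rw [show g = φ y from rfl, orderOf_injective _ hφ, hy, Nat.card_units, FiniteField.natCard_extension,
               hF, ← pow_mul] }⟩

/-- A transvection. -/
theorem model_two {p : ℕ} [Fact p.Prime] [CharP F p] :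
    ∃ M : IsoModel.{u, u} (hF := hF) 2 p, ∃ w : M.W, w ≠ 0 ∧ M.g w = w := by
  obtain ⟨t, ht0, htt⟩ : ∃ t : F, t ≠ 0 ∧ t + frobQ hF t = 0 := by
    obtain ⟨b, hb⟩ : ∃ b, frobQ hF b ≠ b := by
      by_contra h; push Not at h; exact frobQ_ne_id hF (RingHom.ext h)
    exact ⟨b - frobQ hF b, sub_ne_zero.2 (Ne.symm hb), by rw [map_sub, frobQ_invol]; ring⟩
  let Φ := hermR hF (fun u v : F × F => u.1 * frobQ hF v.2 + u.2 * frobQ hF v.1)
    (fun u v w => by simp only [Prod.fst_add, Prod.snd_add]; ring)
    (fun c u v => by simp only [Prod.smul_fst, Prod.smul_snd, smul_eq_mul]; ring)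
    (fun u v => by rw [map_add, map_mul, map_mul, frobQ_invol, frobQ_invol]; ring)
  let g : Module.End F (F × F) :=
    (LinearMap.fst F F F + t • LinearMap.snd F F F).prod (LinearMap.snd F F F)
  have hg : ∀ u : F × F, g u = (u.1 + t * u.2, u.2) := fun u => by simp [g]
  refine ⟨{ W := F × F, Φ := Φ, g := g, σ_eq := rfl, ε_eq := rfl
            nondeg := fun v hv => by
              refine Prod.ext ((frobQ hF).injective ?_) ((frobQ hF).injective ?_)
              · simpa [Φ, hermR] using hv (0, 1)
              · simpa [Φ, hermR] using hv (1, 0)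
            dim := by rw [Module.finrank_prod, finrank_self]
            isom := fun u v => by
              rw [hg, hg]
              show (u.1 + t * u.2) * frobQ hF v.2 + u.2 * frobQ hF (v.1 + t * v.2) =
                u.1 * frobQ hF v.2 + u.2 * frobQ hF v.1
              rw [map_add, map_mul]
              linear_combination u.2 * frobQ hF v.2 * htt
            ord := ?_ }, ((1 : F), (0 : F)), by simp, by simp [hg]⟩
  refine orderOf_eq_prime (LinearMap.ext fun u => ?_) fun h => ht0 ?_
  · have hr : ∀ (r : ℕ) (u : F × F), (g ^ r) u = (u.1 + (r : F) * t * u.2, u.2) := by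
      intro r
      induction r with
      | zero => intro u; simp
      | succ r ih =>
        intro u
        rw [pow_succ, Module.End.mul_apply, ih, hg]
        refine Prod.ext ?_ rfl
        push_cast; ring
    rw [hr, CharP.cast_eq_zero]
    simp
  · have := congrArg Prod.fst (LinearMap.congr_fun h (0, 1))
    simpa [hg] using this

/-- A regular unipotent element of order four. -/
theorem model_three (hq : q = 2) : ∃ M : IsoModel.{u, u} (hF := hF) 3 4, ∃ w : M.W, w ≠ 0 ∧ M.g w = w := by
  subst hq
  haveI := Fintype.ofFinite F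
  obtain ⟨p, k, hp, hp', hpk⟩ := exists_charP_pow hF
  obtain rfl : p = 2 := by
    rcases Nat.eq_zero_or_pos k with rfl | hk
    · simp at hpk
    · exact (Nat.prime_dvd_prime_iff_eq hp' Nat.prime_two).1 (hpk ▸ dvd_pow_self p hk.ne')
  have h2 : (2 : F) = 0 := by exact_mod_cast CharP.cast_eq_zero F 2
  obtain ⟨t, ht⟩ := exists_add_σ_eq_one (frobQ_ne_id hF) (frobQ_invol hF)
  let Φ := hermR hF (fun u v : F × F × F => u.1 * frobQ hF v.2.2 + u.2.1 * frobQ hF v.2.1 + u.2.2 * frobQ hF v.1)
    (fun u v w => by simp only [Prod.fst_add, Prod.snd_add]; ring)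
    (fun c u v => by simp only [Prod.smul_fst, Prod.smul_snd, smul_eq_mul]; ring)
    (fun u v => by simp only [map_add, map_mul, frobQ_invol]; ring)
  let fb : F × F × F →ₗ[F] F := (LinearMap.fst F F F).comp (LinearMap.snd F F (F × F))
  let fc : F × F × F →ₗ[F] F := (LinearMap.snd F F F).comp (LinearMap.snd F F (F × F))
  let g : Module.End F (F × F × F) :=
    (LinearMap.fst F F (F × F) + fb + t • fc).prod ((fb + fc).prod fc)
  have hg : ∀ u : F × F × F, g u = (u.1 + u.2.1 + t * u.2.2, u.2.1 + u.2.2, u.2.2) := fun u => by simp [g, fb, fc]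
  refine ⟨{ W := F × F × F, Φ := Φ, g := g, σ_eq := rfl, ε_eq := rfl
            nondeg := fun v hv => by
              refine Prod.ext ((frobQ hF).injective ?_) (Prod.ext ((frobQ hF).injective ?_) ((frobQ hF).injective ?_))
              · simpa [Φ, hermR] using hv (0, 0, 1)
              · simpa [Φ, hermR] using hv (0, 1, 0)
              · simpa [Φ, hermR] using hv (1, 0, 0)
            dim := by rw [Module.finrank_prod, Module.finrank_prod, finrank_self]
            isom := fun u v => by
              rw [hg, hg]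
              show (u.1 + u.2.1 + t * u.2.2) * frobQ hF v.2.2 + (u.2.1 + u.2.2) * frobQ hF (v.2.1 + v.2.2)
                  + u.2.2 * frobQ hF (v.1 + v.2.1 + t * v.2.2) =
                u.1 * frobQ hF v.2.2 + u.2.1 * frobQ hF v.2.1 + u.2.2 * frobQ hF v.1
              simp only [map_add, map_mul]
              linear_combination u.2.2 * frobQ hF v.2.2 * ht +
                (u.2.1 * frobQ hF v.2.2 + u.2.2 * frobQ hF v.2.1 + u.2.2 * frobQ hF v.2.2) * h2
            ord := ?_ }, ((1 : F), (0 : F), (0 : F)), by simp, by simp [hg]⟩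
  refine orderOf_eq_prime_pow (p := 2) (n := 1) (fun h => ?_) (LinearMap.ext fun u => ?_)
  · have := congrArg Prod.fst (LinearMap.congr_fun h (0, 0, 1))
    simp [pow_two, hg] at this
    exact one_ne_zero (α := F) (by linear_combination this - t * h2)
  · show (g * g * g * g) u = u
    simp only [Module.End.mul_apply, hg]
    refine Prod.ext ?_ (Prod.ext ?_ rfl)
    · dsimp only
      linear_combination (2 * u.2.1 + 3 * u.2.2 + 2 * t * u.2.2) * h2
    · dsimp only
      linear_combination 2 * u.2.2 * h2

end CfsgLib.MaxOrderU
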