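import Cfsg.Agent.MaxOrder.UShape
import Cfsg.Agent.MaxOrder.UModels

/-!
The largest element order of `PGU_n(q)`.
-/

set_option autoImplicit false
set_option linter.style.haveILetI false

namespace CfsgLib.MaxOrderU

open Module Matrix CfsgLib.Forms CfsgLib.Unitary

universe u

variable {F : Type u} [Field F] [Finite F] {q p n : ℕ} (hF : Nat.card F = q ^ 2) [hp : Fact p.Prime] [CharP F p]

include hF in
/-- The upper bound. -/
theorem order_le (hpq : p ≤ q) (hne : q ≠ p → 2 * p ≤ q) (hn : 3 ≤ n) (h32 : ¬ (n = 3 ∧ q = 2))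
    (g : ↥(Cfsg.GU n F q) ⧸ Subgroup.center ↥(Cfsg.GU n F q)) : orderOf g ≤ target p q n := by
  obtain ⟨A, rfl⟩ := QuotientGroup.mk_surjective g
  have hp2 := hp.out.two_le
  have hq : 2 ≤ q := hp2.trans hpq
  set M : Matrix (Fin n) (Fin n) F := (A : Matrix.GeneralLinearGroup (Fin n) F).val with hM
  set θ := Matrix.toLinAlgEquiv' (R := F) (n := Fin n) with hθ
  obtain ⟨P, hpos, hsize, hrel, hone⟩ := normal_form (p := p) hF n (uForm hF n) rfl (uForm_nondeg hF n)
    (Module.finrank_fin_fun F) (θ M) (fun u v => mem_GU_iff.1 A.2 u v)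
  rw [Module.finrank_fin_fun] at hsize
  have key : ∀ (N : ℕ) (c : F), 0 < N → (θ M) ^ N = algebraMap F (Module.End F (Fin n → F)) c →
      orderOf (QuotientGroup.mk A : ↥(Cfsg.GU n F q) ⧸ Subgroup.center ↥(Cfsg.GU n F q)) ≤ N := by
    intro N c hN hc
    refine orderOf_le_of_pow_eq_one hN ?_
    rw [← map_pow, ← AlgEquiv.commutes θ, θ.injective.eq_iff] at hc
    rw [← QuotientGroup.mk_pow, QuotientGroup.eq_one_iff, Subgroup.mem_center_iff]
    refine fun B => Subtype.ext (Units.ext ?_)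
    simp only [Subgroup.coe_mul, Units.val_mul, SubmonoidClass.coe_pow, Units.val_pow_eq_pow_val]
    rw [← hM, hc]
    exact (Algebra.commutes c _).symm
  rcases Nat.lt_or_ge P.length 2 with hl | hl
  · obtain ⟨x, rfl⟩ : ∃ x, P = [x] := by
      match P, hl, hsize with
      | [], _, h => simp [nS] at h; omega
      | [x], _, _ => exact ⟨x, rfl⟩
    have hx := hpos x (List.mem_singleton_self _)
    obtain ⟨a, ha, hle⟩ := bound_single hp2 hpq hne hn h32 hx.1 hx.2 (by simpa [nS] using hsize)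
    obtain ⟨c, hc⟩ := hone x rfl a ha
    exact (key _ c (Nat.mul_pos (Nat.pow_pos (by omega))
      (Nat.div_pos (Nat.le_of_dvd (uN_pos hq hx.1) (succ_dvd_uN q _)) (by omega))) hc).trans hle
  · obtain ⟨a, ha, hle⟩ := bound_multi hp2 hpq hne hn P hpos hsize hl
    exact (key _ 1 (Nat.mul_pos (Nat.pow_pos (by omega)) (uLcm_pos hq P fun x hx => (hpos x hx).1))
      (by rw [map_one]; exact hrel a _ ha (dvd_uLcm q P))).trans hle

include hF in
/-- The bound is attained. -/
theorem exists_order (hpq : p ∣ q) (hn : 3 ≤ n) :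
    ∃ g : ↥(Cfsg.GU n F q) ⧸ Subgroup.center ↥(Cfsg.GU n F q), orderOf g = target p q n := by
  classical
  have hq := two_le_q hF
  rcases Nat.even_or_odd n with hev | hod
  · rw [target, if_neg (Nat.not_odd_iff_even.2 hev)]
    split_ifs with h2
    · obtain ⟨M₁, w, hw, hfix⟩ := model_three hF h2
      have hodd : Odd (n - 3) := by
        obtain ⟨t, rfl⟩ := hev; exact ⟨t - 2, by omega⟩
      obtain ⟨M₂⟩ := model_field hF hodd
      obtain ⟨g, hg⟩ := exists_mk_order M₁ M₂ hw hfix (show 3 + (n - 3) = n by omega) (by omega)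
      refine ⟨g, hg.trans ?_⟩
      subst h2
      refine Nat.Coprime.lcm_eq_mul ?_
      rw [show (4 : ℕ) = 2 ^ 2 from rfl]
      refine Nat.Coprime.pow_left 2 (Nat.coprime_two_left.2 (Even.add_one ?_))
      exact Nat.even_pow.2 ⟨even_two, by rintro h; simp [h] at hodd⟩
    · obtain ⟨M₁, w, hw, hfix⟩ := model_one hF
      have hodd : Odd (n - 1) := by
        obtain ⟨t, rfl⟩ := hev; exact ⟨t - 1, by omega⟩
      obtain ⟨M₂⟩ := model_field hF hodd
      obtain ⟨g, hg⟩ := exists_mk_order M₁ M₂ hw hfix (show 1 + (n - 1) = n by omega) (by omega)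
      exact ⟨g, hg.trans (Nat.lcm_one_left _)⟩
  · rw [target, if_pos hod]
    split_ifs with h2
    · obtain ⟨M₁, w, hw, hfix⟩ := model_two hF (p := p)
      have hodd : Odd (n - 2) := by
        obtain ⟨t, rfl⟩ := hod; exact ⟨t - 1, by omega⟩
      obtain ⟨M₂⟩ := model_field hF hodd
      obtain ⟨g, hg⟩ := exists_mk_order M₁ M₂ hw hfix (show 2 + (n - 2) = n by omega) (by omega)
      refine ⟨g, hg.trans ?_⟩
      rw [mul_comm, h2]
      refine Nat.Coprime.lcm_eq_mul ((Nat.Prime.coprime_iff_not_dvd hp.out).2 fun hd => ?_)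
      exact hp.out.not_dvd_one ((Nat.dvd_add_right (dvd_pow_self p (show n - 2 ≠ 0 by omega))).1 hd)
    · obtain ⟨M₁, w, hw, hfix⟩ := model_one hF
      obtain ⟨m, rfl⟩ := hod
      obtain ⟨M₂⟩ := model_pair hF (show 1 ≤ m by omega)
      obtain ⟨g, hg⟩ := exists_mk_order M₁ M₂ hw hfix (show 1 + 2 * m = 2 * m + 1 by omega) (by omega)
      exact ⟨g, hg.trans (by rw [Nat.lcm_one_left, Nat.add_sub_cancel])⟩

end CfsgLib.MaxOrderU
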