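import Cfsg.Agent.MaxOrder.UArith
import Cfsg.Agent.Spectrum.PSUHalfTorus
import Cfsg.Agent.PrimeGraph.PSL2Spectrum

/-!
The tori and nilpotency of an isometry of a Hermitian form, by repeated splitting.
-/

set_option autoImplicit false
set_option linter.style.haveILetI false

namespace CfsgLib.MaxOrderU

open Module CfsgLib.Forms CfsgLib.SpecAbsorb

universe u v

variable {F : Type u} [Field F] [Finite F] {q p : ℕ} (hF : Nat.card F = q ^ 2) [hp : Fact p.Prime] [CharP F p]

/-- The shape of an isometry: pieces `(δ, L)`; one piece gives a scalar earlier. -/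
def Good {V : Type v} [AddCommGroup V] [Module F V] (q p : ℕ) (g : Module.End F V) : Prop :=
  ∃ P : List (ℕ × ℕ), (∀ x ∈ P, 1 ≤ x.1 ∧ 1 ≤ x.2) ∧ nS P = finrank F V ∧
    (∀ a M : ℕ, (∀ x ∈ P, x.2 ≤ p ^ a) → (∀ x ∈ P, uN q x.1 ∣ M) → g ^ (p ^ a * M) = 1) ∧
    (∀ x, P = [x] → ∀ a, x.2 ≤ p ^ a →
      ∃ c : F, g ^ (p ^ a * (uN q x.1 / (q + 1))) = algebraMap F (Module.End F V) c)

omit [Finite F] in
theorem pow_eq_scalar {V : Type v} [AddCommGroup V] [Module F V] [Nontrivial V] {g : Module.End F V} {c : F}
    {R L a : ℕ} (h : (g ^ R - algebraMap F (Module.End F V) c) ^ L = 0) (ha : L ≤ p ^ a) :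
    g ^ (p ^ a * R) = algebraMap F (Module.End F V) (c ^ p ^ a) := by
  haveI : CharP (Module.End F V) p := charP_of_injective_algebraMap (FaithfulSMul.algebraMap_injective F _) p
  have h1 := pow_eq_zero_of_le ha h
  rw [sub_pow_char_pow_of_commute p _ ((Algebra.commutes c _).symm), sub_eq_zero, ← map_pow] at h1
  rw [mul_comm, pow_mul, h1]

omit [Finite F] in
theorem good_leaf {V : Type v} [AddCommGroup V] [Module F V] [Nontrivial V] {g : Module.End F V} {c : F}
    {δ L : ℕ} (hδ : 1 ≤ δ) (hL : 1 ≤ L) (hn : δ * L = finrank F V) (hc : c ^ (q + 1) = 1)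
    (h : (g ^ (uN q δ / (q + 1)) - algebraMap F (Module.End F V) c) ^ L = 0) : Good q p g := by
  refine ⟨[(δ, L)], fun x hx => ?_, ?_, fun a M ha hM => ?_, fun x hx a ha => ?_⟩
  · rw [List.mem_singleton] at hx; subst hx; exact ⟨hδ, hL⟩
  · simpa [nS] using hn
  · have h1 := pow_eq_scalar (p := p) h (ha _ (List.mem_singleton_self _))
    obtain ⟨t, rfl⟩ := hM _ (List.mem_singleton_self _)
    rw [show p ^ a * (uN q δ * t) = p ^ a * (uN q δ / (q + 1)) * ((q + 1) * t) by
      conv_lhs => rw [← Nat.div_mul_cancel (succ_dvd_uN q δ)]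
      ring, pow_mul, h1, ← map_pow, pow_mul, ← pow_mul c, mul_comm (p ^ a), pow_mul c, hc, one_pow, one_pow, map_one]
  · obtain rfl : x = (δ, L) := by simpa using hx.symm
    exact ⟨_, pow_eq_scalar h ha⟩

include hF in
/-- The `q + 1`-st roots of unity of an extension lie below. -/
theorem exists_scalar {K : Type v} [Field K] [Algebra F K] {y : K} (hy : y ^ (q + 1) = 1) :
    ∃ c : F, y = algebraMap F K c ∧ c ^ (q + 1) = 1 := by
  haveI := Fintype.ofFinite F
  have hq := two_le_q hF
  obtain ⟨t, rfl⟩ : ∃ t, q = t + 1 := ⟨q - 1, by omega⟩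
  have hcard : y ^ Fintype.card F = y := by
    rw [← Nat.card_eq_fintype_card, hF, show (t + 1) ^ 2 = (t + 1 + 1) * t + 1 by ring, pow_succ, pow_mul, hy,
      one_pow, one_mul]
  obtain ⟨c, hc⟩ := PSL2Spec.mem_range_of_pow_card (algebraMap F K) hcard
  refine ⟨c, hc.symm, (algebraMap F K).injective ?_⟩
  rw [map_pow, hc, hy, map_one]

include hF in
/-- The normal form. -/
theorem normal_form : ∀ (n : ℕ) {V : Type u} [AddCommGroup V] [Module F V] [FiniteDimensional F V]
    (Φ : RForm F V), Φ.σ = frobQ hF → Φ.Nondeg → finrank F V = n →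
    ∀ g : Module.End F V, (∀ u w, Φ.h (g u) (g w) = Φ.h u w) → Good q p g := by
  intro n
  induction n using Nat.strong_induction_on with
  | _ n ih =>
    intro V _ _ _ Φ hσ hΦ hV g hg
    rcases Nat.eq_zero_or_pos n with rfl | hn
    · haveI : Subsingleton V := (Module.finrank_zero_iff (R := F)).1 hV
      exact ⟨[], by simp, by simp [nS, hV], fun _ _ _ _ => LinearMap.ext fun _ => Subsingleton.elim _ _,
        fun _ h => absurd h (by simp)⟩
    haveI : Nontrivial V := Module.nontrivial_of_finrank_pos (R := F) (by omega)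
    rcases cases hΦ hg with ⟨e, he, he0, he1, hce, hee⟩ |
        ⟨K, _, _, _, d, L, τ, y, hL, hKc, hdL, hττ, hτF, hτy, -, hnil⟩ |
        ⟨K, _, _, _, d, L, y, δ, hL, hKc, hdL, hy0, -, -, hnil⟩
    · have he' : (1 - e) * (1 - e) = 1 - e := by rw [mul_sub, sub_mul, sub_mul, he, one_mul, mul_one]; abel
      have hee' : IsAdj Φ (1 - e) (1 - e) := fun u w => by
        simp only [LinearMap.sub_apply, Module.End.one_apply, Φ.sub_left, Φ.sub_right, hee u w]
      have hlt : ∀ a : Module.End F V, a * a = a → a ≠ 1 → finrank F (LinearMap.range a) < finrank F V := by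
        refine fun a ha ha1 => Submodule.finrank_lt fun h => ha1 (LinearMap.ext fun w => ?_)
        obtain ⟨x, rfl⟩ := LinearMap.range_eq_top.1 h w
        exact LinearMap.congr_fun ha x
      have inv : ∀ a : Module.End F V, Commute g a → ∀ w ∈ LinearMap.range a, g w ∈ LinearMap.range a := by
        rintro a ha _ ⟨x, rfl⟩
        exact ⟨g x, (LinearMap.congr_fun ha.eq x).symm⟩
      have hce' : Commute g (1 - e) := (Commute.one_right g).sub_right hce
      have hne : ∀ a : Module.End F V, a ≠ 0 → 1 ≤ finrank F (LinearMap.range a) := fun a ha => by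
        rw [Nat.one_le_iff_ne_zero]
        exact fun h => ha (LinearMap.range_eq_bot.1 (Submodule.finrank_eq_zero.1 h))
      have hg₁ : ∀ u w : LinearMap.range e, (PSUHalfTorus.restrForm Φ (LinearMap.range e)).h
          (g.restrict (inv e hce) u) (g.restrict (inv e hce) w) =
          (PSUHalfTorus.restrForm Φ (LinearMap.range e)).h u w := fun u w => hg u w
      have hg₂ : ∀ u w : LinearMap.range (1 - e), (PSUHalfTorus.restrForm Φ (LinearMap.range (1 - e))).h
          (g.restrict (inv (1 - e) hce') u) (g.restrict (inv (1 - e) hce') w) =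
          (PSUHalfTorus.restrForm Φ (LinearMap.range (1 - e))).h u w := fun u w => hg u w
      obtain ⟨P₁, hp1, hs1, hr1, -⟩ := ih (finrank F (LinearMap.range e)) (by rw [← hV]; exact hlt e he he1) (PSUHalfTorus.restrForm Φ (LinearMap.range e)) hσ
        (PSUHalfTorus.restrForm_range_nondeg hΦ he hee) rfl (g.restrict (inv e hce)) hg₁
      obtain ⟨P₂, hp2, hs2, hr2, -⟩ := ih (finrank F (LinearMap.range (1 - e)))
        (by rw [← hV]; exact hlt (1 - e) he' fun h => he0 (by simpa using h))
        (PSUHalfTorus.restrForm Φ (LinearMap.range (1 - e))) hσ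
        (PSUHalfTorus.restrForm_range_nondeg hΦ he' hee') rfl (g.restrict (inv (1 - e) hce')) hg₂
      have hsum : finrank F (LinearMap.range e) + finrank F (LinearMap.range (1 - e)) = finrank F V := by
        rw [← LinearMap.finrank_range_add_finrank_ker e]
        rw [show LinearMap.range (1 - e) = LinearMap.ker e from ?_]
        ext w
        rw [LinearMap.mem_range, LinearMap.mem_ker]
        refine ⟨?_, fun hw => ⟨w, by rw [LinearMap.sub_apply, Module.End.one_apply, hw, sub_zero]⟩⟩
        rintro ⟨x, rfl⟩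
        rw [LinearMap.sub_apply, Module.End.one_apply, map_sub, ← Module.End.mul_apply, he, sub_self]
      refine ⟨P₁ ++ P₂, ?_, ?_, fun a M ha hM => ?_, fun x hx => ?_⟩
      · intro x hx
        rcases List.mem_append.1 hx with h | h
        exacts [hp1 x h, hp2 x h]
      · rw [nS, List.map_append, List.sum_append]
        rw [nS] at hs1 hs2
        omega
      · have h1 := hr1 a M (fun x hx => ha x (List.mem_append_left _ hx)) fun x hx => hM x (List.mem_append_left _ hx)
        have h2 := hr2 a M (fun x hx => ha x (List.mem_append_right _ hx))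
          fun x hx => hM x (List.mem_append_right _ hx)
        refine LinearMap.ext fun w => ?_
        have e1 := congrArg Subtype.val (LinearMap.congr_fun h1 ⟨e w, LinearMap.mem_range_self e w⟩)
        have e2 := congrArg Subtype.val (LinearMap.congr_fun h2 ⟨(1 - e) w, LinearMap.mem_range_self _ w⟩)
        rw [Module.End.pow_restrict] at e1 e2
        rw [Module.End.one_apply]
        conv_lhs => rw [show w = e w + (1 - e) w by simp]
        rw [map_add]
        exact (congrArg₂ (· + ·) e1 e2).trans (by simp)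
      · exfalso
        have n1 : 1 ≤ P₁.length := by
          rcases P₁ with _ | ⟨z, Q⟩
          · have := hne e he0; simp [nS] at hs1; omega
          · simp
        have n2 : 1 ≤ P₂.length := by
          rcases P₂ with _ | ⟨z, Q⟩
          · have := hne (1 - e) (sub_ne_zero.2 (Ne.symm he1)); simp [nS] at hs2; omega
          · simp
        have := congrArg List.length hx
        rw [List.length_append, List.length_singleton] at this
        omega
    · have hd1 : 1 ≤ d := by rcases Nat.eq_zero_or_pos d with rfl | h' <;> [simp [hV] at hdL; exact h'] ; omega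
      obtain ⟨hd, hy⟩ := PSUHalfTorus.field_pow hF hKc τ y hττ (fun c => by rw [hτF, hσ]) hτy
      obtain ⟨c, hc, hc1⟩ := exists_scalar hF (show (y ^ (uN q d / (q + 1))) ^ (q + 1) = 1 by
        rw [← pow_mul, Nat.div_mul_cancel (succ_dvd_uN q d), uN_odd hd, hy])
      exact good_leaf hd1 hL hdL hc1 (hnil _ c hc)
    · have hd1 : 1 ≤ d := by rcases Nat.eq_zero_or_pos d with rfl | h' <;> [simp [hV] at hdL; exact h'] ; omega
      haveI := Fintype.ofFinite K
      obtain ⟨c, hc, hc1⟩ := exists_scalar hF (show (y ^ (uN q (2 * d) / (q + 1))) ^ (q + 1) = 1 by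
        rw [← pow_mul, Nat.div_mul_cancel (succ_dvd_uN q _), uN_even (even_two_mul d),
          show q ^ (2 * d) = Fintype.card K by rw [← Nat.card_eq_fintype_card, hKc, hF, ← pow_mul]]
        exact FiniteField.pow_card_sub_one_eq_one y hy0)
      refine good_leaf (by omega : 1 ≤ 2 * d) hL (by rw [mul_assoc]; exact hdL) hc1 (hnil _ c hc ?_)
      rw [hσ, frobQ_apply, ← pow_succ', hc1]

end CfsgLib.MaxOrderU
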